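import Mathlib

/-!
Two-transitive groups of degree `p ^ 2 + 1`: systems of blocks of size `p` for the point
stabilisers, their kernels, and the fact that the sets `{a} ∪ blk a b` cannot form a design.
-/

open MulAction
open scoped Pointwise

namespace CfsgLib.Perm.DegreeSqSucc

variable {G Ω : Type*} [Group G] [MulAction G Ω] {p : ℕ}

/-- A faithful two-transitive action of degree `p ^ 2 + 1`, `p` an odd prime. -/
structure Hyp (G Ω : Type*) [Group G] [MulAction G Ω] (p : ℕ) : Prop where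
  prime : p.Prime
  odd : p ≠ 2
  card : Nat.card Ω = p ^ 2 + 1
  faithful : ∀ g : G, (∀ c : Ω, g • c = c) → g = 1
  two : ∀ a b c d : Ω, a ≠ b → c ≠ d → ∃ g : G, g • a = c ∧ g • b = d

/-- An equivariant family of block systems, with blocks of size `p`, for all point stabilisers:
`blk a b` is the block at `a` that contains `b`. -/
structure Sys (G Ω : Type*) [Group G] [MulAction G Ω] (p : ℕ) where
  blk : Ω → Ω → Set Ω
  self_mem : ∀ {a b : Ω}, a ≠ b → b ∈ blk a b
  not_mem : ∀ {a b : Ω}, a ≠ b → a ∉ blk a b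
  eq_of_mem : ∀ {a b c : Ω}, a ≠ b → c ∈ blk a b → blk a c = blk a b
  smul_blk : ∀ (g : G) {a b : Ω}, a ≠ b → g • blk a b = blk (g • a) (g • b)
  ncard : ∀ {a b : Ω}, a ≠ b → (blk a b).ncard = p

/-- If all fibres of a map have size `m`, the size of the image times `m` is the size of the source. -/
theorem card_of_fibres {α β : Type*} [DecidableEq β] (s : Finset α) (f : α → β) (m : ℕ)
    (h : ∀ x ∈ s, (s.filter fun y => f y = f x).card = m) : s.card = (s.image f).card * m := by
  rw [Finset.card_eq_sum_card_image f s, Finset.sum_const_nat]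
  intro t ht
  obtain ⟨x, hx, rfl⟩ := Finset.mem_image.1 ht
  exact h x hx

namespace Hyp

variable (H : Hyp G Ω p)
include H

theorem finite : Finite Ω := Nat.finite_of_card_ne_zero (by rw [H.card]; omega)

theorem two_le : 2 ≤ p := H.prime.two_le

theorem three_le : 3 ≤ p := by
  have := H.two_le; have := H.odd; omega

theorem ncard_compl (a : Ω) : ({a}ᶜ : Set Ω).ncard = p ^ 2 := by
  have := H.finite
  rw [Set.ncard_compl, Set.ncard_singleton, H.card]; omega

theorem exists_ne (a : Ω) : ∃ b : Ω, a ≠ b := by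
  have := H.finite
  have h := H.ncard_compl a
  have : ({a}ᶜ : Set Ω).Nonempty := Set.nonempty_of_ncard_ne_zero (by
    rw [h]; exact pow_ne_zero _ H.prime.ne_zero)
  obtain ⟨b, hb⟩ := this
  exact ⟨b, fun e => hb e.symm⟩

theorem exists_stab_move {a b c : Ω} (hb : a ≠ b) (hc : a ≠ c) :
    ∃ g : G, g • a = a ∧ g • b = c := H.two a b a c hb hc

end Hyp

namespace Sys

variable (s : Sys G Ω p) {a b c : Ω}

theorem ne_of_mem (hab : a ≠ b) (hc : c ∈ s.blk a b) : a ≠ c :=
  fun e => s.not_mem hab (e ▸ hc)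

theorem mem_iff (hab : a ≠ b) (hac : a ≠ c) : c ∈ s.blk a b ↔ s.blk a c = s.blk a b :=
  ⟨s.eq_of_mem hab, fun h => h ▸ s.self_mem hac⟩

theorem smul_mem (g : G) (hab : a ≠ b) (hc : c ∈ s.blk a b) : g • c ∈ s.blk (g • a) (g • b) := by
  rw [← s.smul_blk g hab]; exact Set.smul_mem_smul_set hc

theorem smul_mem_iff (g : G) (hab : a ≠ b) :
    g • c ∈ s.blk (g • a) (g • b) ↔ c ∈ s.blk a b := by
  rw [← s.smul_blk g hab]; exact Set.smul_mem_smul_set_iff

/-- The kernel on the blocks at `a`. -/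
def ker (a : Ω) : Subgroup G where
  carrier := {g | g • a = a ∧ ∀ c, a ≠ c → g • c ∈ s.blk a c}
  one_mem' := ⟨one_smul G a, fun c hc => by rw [one_smul]; exact s.self_mem hc⟩
  mul_mem' := by
    rintro g h ⟨hga, hg⟩ ⟨hha, hh⟩
    refine ⟨by rw [mul_smul, hha, hga], fun c hc => ?_⟩
    have h1 := hh c hc
    have h2 : a ≠ h • c := s.ne_of_mem hc h1
    rw [mul_smul, ← s.eq_of_mem hc h1]
    exact hg _ h2
  inv_mem' := by
    rintro g ⟨hga, hg⟩
    have hga' : g⁻¹ • a = a := by rw [inv_smul_eq_iff, hga]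
    refine ⟨hga', fun c hc => ?_⟩
    have hc' : a ≠ g⁻¹ • c := fun e => hc (by rw [← hga, e, smul_inv_smul])
    have h1 := hg _ hc'
    rw [smul_inv_smul] at h1
    rw [s.eq_of_mem hc' h1]
    exact s.self_mem hc'

theorem mem_ker {g : G} {a : Ω} : g ∈ s.ker a ↔ g • a = a ∧ ∀ c, a ≠ c → g • c ∈ s.blk a c :=
  Iff.rfl

theorem ker_le (a : Ω) : s.ker a ≤ stabilizer G a := fun _ h => h.1

theorem ker_smul {g : G} (hg : g ∈ s.ker a) (hac : a ≠ c) : s.blk a (g • c) = s.blk a c :=
  s.eq_of_mem hac (hg.2 c hac)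

theorem conj_mem_ker (g : G) {k : G} (hk : k ∈ s.ker a) : g * k * g⁻¹ ∈ s.ker (g • a) := by
  refine ⟨by rw [mul_smul, mul_smul, inv_smul_smul, hk.1], fun c hc => ?_⟩
  have hc' : a ≠ g⁻¹ • c := fun e => hc (by rw [e, smul_inv_smul])
  have h := s.smul_mem g hc' (hk.2 _ hc')
  rw [smul_inv_smul] at h
  simpa only [mul_smul] using h

theorem conj_mem_ker_self {g k : G} (hg : g • a = a) (hk : k ∈ s.ker a) :
    g * k * g⁻¹ ∈ s.ker a := by
  have := s.conj_mem_ker g hk
  rwa [hg] at this

/-- The stabiliser of a point in the kernel on the blocks at `a`. -/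
def kst (a c : Ω) : Subgroup G := s.ker a ⊓ stabilizer G c

theorem mem_kst {g : G} {a c : Ω} : g ∈ s.kst a c ↔ g ∈ s.ker a ∧ g • c = c := Iff.rfl

theorem conj_mem_kst (g : G) {k : G} (hk : k ∈ s.kst a c) :
    g * k * g⁻¹ ∈ s.kst (g • a) (g • c) :=
  ⟨s.conj_mem_ker g hk.1, by
    show (g * k * g⁻¹) • g • c = g • c
    rw [mul_smul, mul_smul, inv_smul_smul, mem_stabilizer_iff.1 hk.2]⟩

/-- `a` together with the block of `b` at `a`. -/
def line (a b : Ω) : Set Ω := insert a (s.blk a b)

theorem smul_line (g : G) (hab : a ≠ b) : g • s.line a b = s.line (g • a) (g • b) := by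
  rw [line, line, ← s.smul_blk g hab, Set.smul_set_insert]

variable [Finite Ω]

theorem ncard_line (hab : a ≠ b) : (s.line a b).ncard = p + 1 := by
  rw [line, Set.ncard_insert_of_notMem (s.not_mem hab), s.ncard hab]

theorem blk_eq_of_subset {d : Ω} (hab : a ≠ b) (hcd : c ≠ d) (h : s.blk a b ⊆ s.blk c d) :
    s.blk a b = s.blk c d :=
  Set.eq_of_subset_of_ncard_le h (by rw [s.ncard hab, s.ncard hcd])

/-- The sets `{a} ∪ blk a b` never agree with `{b} ∪ blk b a`: otherwise they would be the lines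
of a design with `p + 1` points on a line and `p ^ 2 + 1` points. -/
theorem line_ne (H : Hyp G Ω p) (hab : a ≠ b) : s.line a b ≠ s.line b a := by
  classical
  intro heq
  have hall : ∀ x y : Ω, x ≠ y → s.line x y = s.line y x := by
    intro x y hxy
    obtain ⟨g, rfl, rfl⟩ := H.two a b x y hab hxy
    rw [← s.smul_line g hab, ← s.smul_line g hab.symm, heq]
  have hfst : ∀ x y z : Ω, x ≠ y → z ∈ s.line x y → x ≠ z → s.line x z = s.line x y := by
    intro x y z hxy hz hxz
    rcases Set.mem_insert_iff.1 hz with e | hz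
    · exact absurd e.symm hxz
    · show insert x (s.blk x z) = insert x (s.blk x y)
      rw [s.eq_of_mem hxy hz]
  have huniq : ∀ x y u v : Ω, x ≠ y → u ≠ v → u ∈ s.line x y → v ∈ s.line x y →
      s.line u v = s.line x y := by
    intro x y u v hxy huv hu hv
    by_cases hxu : x = u
    · subst hxu; exact hfst x y v hxy hv huv
    · have h1 : s.line u x = s.line x y := by rw [hall u x (Ne.symm hxu), hfst x y u hxy hu hxu]
      rw [← h1] at hv ⊢
      exact hfst u x v (Ne.symm hxu) hv huv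
  let _ : Fintype Ω := Fintype.ofFinite Ω
  have hfib := card_of_fibres (Finset.univ : Finset Ω).offDiag (fun q => s.line q.1 q.2)
    ((p + 1) * p) fun q hq => by
      rw [Finset.mem_offDiag] at hq
      have hq1 : q.1 ≠ q.2 := hq.2.2
      have hset : ((Finset.univ : Finset Ω).offDiag.filter fun r => s.line r.1 r.2 = s.line q.1 q.2)
          = (s.line q.1 q.2).toFinset.offDiag := by
        ext r
        simp only [Finset.mem_filter, Finset.mem_offDiag, Finset.mem_univ, true_and,
          Set.mem_toFinset]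
        constructor
        · rintro ⟨hr, he⟩
          refine ⟨?_, ?_, hr⟩
          · rw [← he]; exact Set.mem_insert _ _
          · rw [← he]; exact Set.mem_insert_of_mem _ (s.self_mem hr)
        · rintro ⟨h1, h2, hr⟩
          exact ⟨hr, huniq _ _ _ _ hq1 hr h1 h2⟩
      rw [hset, Finset.offDiag_card, ← Set.ncard_eq_toFinset_card', s.ncard_line hq1]
      have : (p + 1) * (p + 1) = (p + 1) * p + (p + 1) := by ring
      omega
  rw [Finset.offDiag_card, Finset.card_univ, ← Nat.card_eq_fintype_card, H.card] at hfib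
  have e : (p ^ 2 + 1) * (p ^ 2 + 1) - (p ^ 2 + 1) = (p ^ 2 + 1) * (p * p) := by
    have : (p ^ 2 + 1) * (p ^ 2 + 1) = (p ^ 2 + 1) * (p * p) + (p ^ 2 + 1) := by ring
    omega
  rw [e] at hfib
  have hdvd : p + 1 ∣ (p ^ 2 + 1) * (p * p) := ⟨((Finset.univ : Finset Ω).offDiag.image fun q => s.line q.1 q.2).card * p, by
      rw [hfib]; ring⟩
  have hco : (p + 1).Coprime (p * p) :=
    Nat.Coprime.mul_right (by simp) (by simp)
  have h1 := hco.dvd_of_dvd_mul_right hdvd
  have hp2 := H.three_le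
  have h2 : p + 1 ∣ (p + 1) * (p - 1) := dvd_mul_right _ _
  have h3 : p ^ 2 + 1 = (p + 1) * (p - 1) + 2 := by
    obtain ⟨q, rfl⟩ := Nat.exists_eq_add_of_le hp2
    rw [show 3 + q - 1 = 2 + q by omega]; ring
  rw [h3] at h1
  have := Nat.le_of_dvd two_pos ((Nat.dvd_add_right h2).1 h1)
  omega

end Sys

end CfsgLib.Perm.DegreeSqSucc
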