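import Cfsg.Agent.Lib.Perm.DegreeSqSucc.Basic

/-!
Two-transitive groups of degree `p ^ 2 + 1` with imprimitive point stabilisers: a two-point
stabiliser has order prime to `p`, a Sylow subgroup of a point stabiliser is regular of order
`p ^ 2`, and the kernel on the blocks is faithful on each block.
-/

open MulAction
open scoped Pointwise

namespace CfsgLib.Perm.DegreeSqSucc

variable {G Ω : Type*} [Group G] [MulAction G Ω] {p : ℕ}

/-- The stabiliser of two points. -/
abbrev pst (G : Type*) {Ω : Type*} [Group G] [MulAction G Ω] (a b : Ω) : Subgroup G :=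
  stabilizer G a ⊓ stabilizer G b

theorem card_eq_orbit_mul (P : Subgroup G) (b : Ω) :
    Nat.card P = (orbit P b).ncard * Nat.card ↥(P ⊓ stabilizer G b) := by
  rw [← (stabilizer P b).card_mul_index, index_stabilizer, mul_comm]
  congr 1
  exact Nat.card_congr
    ⟨fun x => ⟨x.1.1, x.1.2, x.2⟩, fun x => ⟨⟨x.1, x.2.1⟩, x.2.2⟩, fun x => rfl, fun x => rfl⟩

theorem orbit_subset_compl {P : Subgroup G} {a b : Ω} (hP : P ≤ stabilizer G a) (hab : a ≠ b) :
    orbit P b ⊆ {a}ᶜ := by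
  rintro _ ⟨x, rfl⟩ h
  refine hab (smul_left_cancel (x : G) ?_)
  rw [mem_stabilizer_iff.1 (hP x.2)]
  exact (Set.mem_singleton_iff.1 h).symm

theorem card_stab (H : Hyp G Ω p) {a b : Ω} (hab : a ≠ b) :
    Nat.card ↥(stabilizer G a) = p ^ 2 * Nat.card ↥(pst G a b) := by
  rw [card_eq_orbit_mul (stabilizer G a) b]
  congr 1
  rw [← H.ncard_compl a]
  congr 1
  refine subset_antisymm (orbit_subset_compl le_rfl hab) fun c hc => ?_
  obtain ⟨g, hga, hgb⟩ := H.exists_stab_move hab (fun e => hc e.symm)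
  exact ⟨⟨g, hga⟩, hgb⟩

variable [Finite G]

/-- A Sylow subgroup of a point stabiliser containing a given Sylow subgroup of a two-point
stabiliser is transitive on the other points. -/
theorem exists_full (H : Hyp G Ω p) {a b : Ω} (hab : a ≠ b) {Q : Subgroup G} (hQle : Q ≤ pst G a b)
    (hQ : Nat.card Q = p ^ (Nat.card ↥(pst G a b)).factorization p) :
    ∃ P : Subgroup G, P ≤ stabilizer G a ∧ IsPGroup p P ∧ Q ≤ P ∧ P ⊓ stabilizer G b = Q ∧
      Nat.card P = p ^ 2 * Nat.card Q ∧ ∀ c, a ≠ c → ∃ x ∈ P, x • b = c := by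
  have := Fact.mk H.prime
  have := H.finite
  have hQp : IsPGroup p Q := IsPGroup.of_card hQ
  obtain ⟨S, hS⟩ := (hQp.of_equiv
    (Subgroup.subgroupOfEquivOfLe (hQle.trans inf_le_left)).symm).exists_le_sylow
  set P := (S : Subgroup ↥(stabilizer G a)).map (stabilizer G a).subtype with hPdef
  have hPle : P ≤ stabilizer G a := Subgroup.map_subtype_le _
  have hPp : IsPGroup p P := S.isPGroup'.map _
  have hQP : Q ≤ P := fun q hq => ⟨⟨q, (hQle hq).1⟩, hS hq, rfl⟩
  have hPcard : Nat.card P = p ^ 2 * Nat.card Q := by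
    rw [hPdef, Subgroup.card_map_of_injective (Subgroup.subtype_injective _),
      S.card_eq_multiplicity, card_stab H hab, hQ, ← pow_add,
      Nat.factorization_mul (pow_ne_zero _ H.prime.ne_zero) Nat.card_pos.ne', Finsupp.add_apply,
      H.prime.factorization_pow, Finsupp.single_eq_same]
  have hle : Q ≤ P ⊓ stabilizer G b := le_inf hQP (hQle.trans inf_le_right)
  have hPb : P ⊓ stabilizer G b = Q := by
    refine (Subgroup.eq_of_le_of_card_ge hle ?_).symm
    obtain ⟨k, hk⟩ := (hPp.to_le (inf_le_left : P ⊓ stabilizer G b ≤ P)).exists_card_eq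
    have hdvd : p ^ k ∣ Nat.card ↥(pst G a b) :=
      hk ▸ Subgroup.card_dvd_of_le (inf_le_inf_right _ hPle)
    rw [hk, hQ]
    exact Nat.pow_le_pow_right H.prime.pos
      ((H.prime.pow_dvd_iff_le_factorization Nat.card_pos.ne').1 hdvd)
  have horb : orbit P b = {a}ᶜ := by
    have h := card_eq_orbit_mul P b
    rw [hPb, hPcard] at h
    refine Set.eq_of_subset_of_ncard_le (orbit_subset_compl hPle hab) ?_
    rw [H.ncard_compl, ← Nat.eq_of_mul_eq_mul_right Nat.card_pos h]
  refine ⟨P, hPle, hPp, hQP, hPb, hPcard, fun c hc => ?_⟩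
  obtain ⟨x, hx⟩ : c ∈ orbit P b := horb ▸ (fun e => hc e.symm : c ∈ ({a}ᶜ : Set Ω))
  exact ⟨x, x.2, hx⟩

namespace Sys

variable (s : Sys G Ω p) {a b : Ω}

/-- In a transitive `p`-subgroup of a point stabiliser the stabiliser of a block fixes all blocks,
has index `p` and is transitive on each block. -/
theorem full_inf_ker (H : Hyp G Ω p) (hab : a ≠ b) {P : Subgroup G} (hP : P ≤ stabilizer G a)
    (hPp : IsPGroup p P) (htr : ∀ c, a ≠ c → ∃ x ∈ P, x • b = c) :
    (∀ x ∈ P, x • b ∈ s.blk a b → x ∈ s.ker a) ∧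
      Nat.card ↥(P ⊓ s.ker a) = p * Nat.card ↥(P ⊓ stabilizer G b) ∧
      Nat.card P = p * Nat.card ↥(P ⊓ s.ker a) ∧
      ((P ⊓ s.ker a).subgroupOf P).Normal := by
  have := Fact.mk H.prime
  have := H.finite
  set B := P ⊓ stabilizer G (s.blk a b) with hBdef
  have hmemB : ∀ x ∈ P, x • b ∈ s.blk a b → x ∈ B := by
    intro x hx hxb
    refine ⟨hx, ?_⟩
    show x • s.blk a b = s.blk a b
    rw [s.smul_blk x hab, mem_stabilizer_iff.1 (hP hx), s.eq_of_mem hab hxb]
  have horbB : orbit B b = s.blk a b := by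
    ext c
    constructor
    · rintro ⟨x, rfl⟩
      have h := Set.smul_mem_smul_set (a := (x : G)) (s.self_mem hab)
      rwa [mem_stabilizer_iff.1 x.2.2] at h
    · intro hc
      obtain ⟨x, hx, rfl⟩ := htr c (s.ne_of_mem hab hc)
      exact ⟨⟨x, hmemB x hx hc⟩, rfl⟩
  have hBb : B ⊓ stabilizer G b = P ⊓ stabilizer G b := by
    refine le_antisymm (inf_le_inf_right _ inf_le_left) fun x hx => ⟨hmemB x hx.1 ?_, hx.2⟩
    rw [mem_stabilizer_iff.1 hx.2]
    exact s.self_mem hab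
  have hBcard : Nat.card B = p * Nat.card ↥(P ⊓ stabilizer G b) := by
    rw [card_eq_orbit_mul B b, horbB, s.ncard hab, hBb]
  have hPcard : Nat.card P = p * Nat.card B := by
    have h := card_eq_orbit_mul P b
    have ho : orbit P b = {a}ᶜ := by
      refine subset_antisymm (orbit_subset_compl hP hab) fun c hc => ?_
      obtain ⟨x, hx, rfl⟩ := htr c (fun e => hc e.symm)
      exact ⟨⟨x, hx⟩, rfl⟩
    rw [h, ho, H.ncard_compl, hBcard]; ring
  have hBn : (B.subgroupOf P).Normal := by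
    refine Subgroup.normal_of_index_eq_minFac_card ?_
    have hidx : (B.subgroupOf P).index = p := by
      have h := (B.subgroupOf P).card_mul_index
      rw [Nat.card_congr (Subgroup.subgroupOfEquivOfLe (inf_le_left : B ≤ P)).toEquiv, hPcard,
        mul_comm] at h
      exact Nat.eq_of_mul_eq_mul_right Nat.card_pos h
    rw [hidx]
    obtain ⟨k, hk⟩ := hPp.exists_card_eq
    rw [hk, H.prime.pow_minFac]
    rintro rfl
    have h1 : p ≤ Nat.card P := hPcard ▸ Nat.le_mul_of_pos_right p Nat.card_pos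
    rw [hk, pow_zero] at h1
    have := H.two_le; omega
  have hBK : B = P ⊓ s.ker a := by
    refine le_antisymm (fun h hh => ⟨hh.1, hP hh.1, fun c hc => ?_⟩) fun h hh => hmemB h hh.1
      (hh.2.2 b hab)
    obtain ⟨x, hx, rfl⟩ := htr c hc
    have hconj : x⁻¹ * h * x ∈ B := by
      have hm := hBn.conj_mem ⟨h, hh.1⟩ (Subgroup.mem_subgroupOf.2 hh) ⟨x⁻¹, inv_mem hx⟩
      rw [Subgroup.mem_subgroupOf] at hm
      simpa using hm
    have h1 : (x⁻¹ * h * x) • b ∈ s.blk a b := by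
      have h := Set.smul_mem_smul_set (a := x⁻¹ * h * x) (s.self_mem hab)
      rwa [mem_stabilizer_iff.1 hconj.2] at h
    have h2 := s.smul_mem x hab h1
    rw [mem_stabilizer_iff.1 (hP hx), ← mul_smul] at h2
    rwa [mul_assoc x⁻¹, mul_inv_cancel_left, mul_smul] at h2
  rw [← hBK]
  exact ⟨fun x hx hxb => (hBK ▸ hmemB x hx hxb : x ∈ P ⊓ s.ker a).2, hBcard, hPcard, hBn⟩

/-- The fixed points of a nontrivial Sylow `p`-subgroup of a two-point stabiliser. -/
theorem fix_sylow (H : Hyp G Ω p) (hab : a ≠ b) {Q : Subgroup G} (hQle : Q ≤ pst G a b)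
    (hQ : Nat.card Q = p ^ (Nat.card ↥(pst G a b)).factorization p) (hQ1 : Q ≠ ⊥) :
    {c : Ω | ∀ q ∈ Q, q • c = c} = s.line a b := by
  have := Fact.mk H.prime
  obtain ⟨P, hPle, hPp, hQP, hPb, -, htr⟩ := exists_full H hab hQle hQ
  obtain ⟨hker, hDcard, hPcard, hDn⟩ := s.full_inf_ker H hab hPle hPp htr
  set D := P ⊓ s.ker a with hDdef
  rw [hPb] at hDcard
  have hQD : Q ≤ D := fun q hq => ⟨hQP hq, hker q (hQP hq)
    (by rw [mem_stabilizer_iff.1 (hQle hq).2]; exact s.self_mem hab)⟩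
  have hQn : (Q.subgroupOf D).Normal := by
    refine Subgroup.normal_of_index_eq_minFac_card ?_
    have h := (Q.subgroupOf D).card_mul_index
    rw [Nat.card_congr (Subgroup.subgroupOfEquivOfLe hQD).toEquiv, hDcard, mul_comm] at h
    have hidx : (Q.subgroupOf D).index = p := Nat.eq_of_mul_eq_mul_right Nat.card_pos h
    rw [hidx]
    obtain ⟨k, hk⟩ := (hPp.to_le (inf_le_left : D ≤ P)).exists_card_eq
    rw [hk, H.prime.pow_minFac]
    rintro rfl
    rw [hk, pow_zero] at hDcard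
    have := H.two_le
    have : 0 < Nat.card Q := Nat.card_pos
    nlinarith
  have hconjD : ∀ d ∈ D, ∀ q ∈ Q, d⁻¹ * q * d ∈ Q := by
    intro d hd q hq
    have hm := hQn.conj_mem ⟨q, hQD hq⟩ (Subgroup.mem_subgroupOf.2 hq) ⟨d⁻¹, inv_mem hd⟩
    rw [Subgroup.mem_subgroupOf] at hm
    simpa using hm
  ext c
  constructor
  · intro hc
    by_contra hne
    rw [line, Set.mem_insert_iff, not_or] at hne
    obtain ⟨hca, hcb⟩ := hne
    obtain ⟨x, hx, rfl⟩ := htr c (Ne.symm hca)
    have hxQ : ∀ q ∈ Q, x⁻¹ * q * x ∈ Q := by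
      intro q hq
      rw [← hPb]
      refine Subgroup.mem_inf.2 ⟨mul_mem (mul_mem (inv_mem hx) (hQP hq)) hx, ?_⟩
      show (x⁻¹ * q * x) • b = b
      rw [mul_smul, mul_smul, hc q hq, inv_smul_smul]
    -- the elements of `P` whose inverse conjugation keeps `Q` form a subgroup
    let N : Subgroup G :=
      { carrier := {y | y ∈ P ∧ ∀ q, q ∈ Q ↔ y⁻¹ * q * y ∈ Q}
        one_mem' := ⟨one_mem P, fun q => by simp⟩
        mul_mem' := fun {y z} hy hz => ⟨mul_mem hy.1 hz.1, fun q => by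
          rw [hy.2 q, hz.2 (y⁻¹ * q * y)]; simp [mul_assoc]⟩
        inv_mem' := fun {y} hy => ⟨inv_mem hy.1, fun q => by
          rw [hy.2 (y⁻¹⁻¹ * q * y⁻¹)]; simp [mul_assoc]⟩ }
    have hNiff : ∀ y ∈ P, (∀ q ∈ Q, y⁻¹ * q * y ∈ Q) → y ∈ N := by
      intro y hy h
      refine ⟨hy, fun q => ⟨h q, fun hq => ?_⟩⟩
      let f : Q → Q := fun q => ⟨y⁻¹ * q * y, h q q.2⟩
      have hf : Function.Injective f := fun u v e => Subtype.ext (by
        simpa [f] using congrArg Subtype.val e)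
      obtain ⟨u, hu⟩ := (Finite.injective_iff_surjective.1 hf) ⟨_, hq⟩
      have : (u : G) = q := by simpa [f] using congrArg Subtype.val hu
      exact this ▸ u.2
    have hDN : D ≤ N := fun d hd => hNiff d hd.1 (hconjD d hd)
    have hxN : x ∈ N := hNiff x hx hxQ
    have hNP : N ≤ P := fun y hy => hy.1
    have hN : N = P := by
      refine Subgroup.eq_of_le_of_card_ge hNP ?_
      obtain ⟨k, hk⟩ := Subgroup.card_dvd_of_le hDN
      obtain ⟨l, hl⟩ := Subgroup.card_dvd_of_le hNP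
      have hkl : k * l = p := by
        refine Nat.eq_of_mul_eq_mul_left (Nat.card_pos (α := D)) ?_
        rw [← mul_assoc, ← hk, ← hl, hPcard, mul_comm]
      rcases H.prime.eq_one_or_self_of_dvd k (Dvd.intro l hkl) with rfl | rfl
      · exfalso
        rw [mul_one] at hk
        have : D = N := Subgroup.eq_of_le_of_card_ge hDN hk.le
        rw [← this] at hxN
        exact hcb (hxN.2.2 b hab)
      · have : l = 1 := by
          have := Nat.eq_of_mul_eq_mul_left H.prime.pos (hkl.trans (mul_one _).symm)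
          omega
        rw [hl, this, mul_one]
    refine hQ1 ((Subgroup.eq_bot_iff_forall _).2 fun q hq => H.faithful q fun c => ?_)
    by_cases hac : a = c
    · subst hac; exact (hQle hq).1
    · obtain ⟨y, hy, rfl⟩ := htr c hac
      rw [← hN] at hy
      have h : (y⁻¹ * q * y) • b = b := (hQle ((hy.2 q).1 hq)).2
      rw [mul_smul, mul_smul, inv_smul_eq_iff] at h
      exact h
  · intro hc q hq
    rcases Set.mem_insert_iff.1 hc with rfl | hc
    · exact (hQle hq).1
    · obtain ⟨x, hx, rfl⟩ := htr c (s.ne_of_mem hab hc)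
      have h : (x⁻¹ * q * x) • b = b := (hQle (hconjD x ⟨hx, hker x hx hc⟩ q hq)).2
      rw [mul_smul, mul_smul, inv_smul_eq_iff] at h
      exact h

theorem not_dvd_pst (H : Hyp G Ω p) (s : Sys G Ω p) (hab : a ≠ b) :
    ¬ p ∣ Nat.card ↥(pst G a b) := by
  intro hdvd
  have := Fact.mk H.prime
  have := H.finite
  obtain ⟨S⟩ := (inferInstance : Nonempty (Sylow p ↥(pst G a b)))
  set Q := (S : Subgroup ↥(pst G a b)).map (pst G a b).subtype with hQdef
  have hQle : Q ≤ pst G a b := Subgroup.map_subtype_le _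
  have hQ : Nat.card Q = p ^ (Nat.card ↥(pst G a b)).factorization p := by
    rw [hQdef, Subgroup.card_map_of_injective (Subgroup.subtype_injective _),
      S.card_eq_multiplicity]
  have hQ1 : Q ≠ ⊥ := by
    intro h
    rw [h, Subgroup.card_bot] at hQ
    have := H.prime.factorization_pos_of_dvd Nat.card_pos.ne' hdvd
    have := Nat.le_self_pow this.ne' p
    have := H.two_le
    omega
  have hcomm : pst G a b = pst G b a := inf_comm _ _
  have h1 := s.fix_sylow H hab hQle hQ hQ1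
  have h2 := s.fix_sylow H hab.symm (hQle.trans hcomm.le) (by rw [← hcomm]; exact hQ) hQ1
  exact s.line_ne H hab (h1.symm.trans h2)

/-- A regular Sylow subgroup of the stabiliser of `a`. -/
structure Reg (s : Sys G Ω p) (a : Ω) (P : Subgroup G) : Prop where
  le : P ≤ stabilizer G a
  card : Nat.card P = p ^ 2
  comm : ∀ x ∈ P, ∀ y ∈ P, x * y = y * x
  trans : ∀ {b c : Ω}, a ≠ b → a ≠ c → ∃ x ∈ P, x • b = c
  free : ∀ {x : G} {c : Ω}, x ∈ P → a ≠ c → x • c = c → x = 1
  mem_ker : ∀ {x : G} {c : Ω}, x ∈ P → a ≠ c → x • c ∈ s.blk a c → x ∈ s.ker a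
  card_inf : Nat.card ↥(P ⊓ s.ker a) = p
  trans_blk : ∀ {b c : Ω}, a ≠ b → c ∈ s.blk a b → ∃ d ∈ P ⊓ s.ker a, d • b = c

theorem exists_reg (H : Hyp G Ω p) (s : Sys G Ω p) (a : Ω) : ∃ P, Reg s a P := by
  have := Fact.mk H.prime
  obtain ⟨b, hab⟩ := H.exists_ne a
  have hv : (Nat.card ↥(pst G a b)).factorization p = 0 :=
    Nat.factorization_eq_zero_of_not_dvd (not_dvd_pst H s hab)
  obtain ⟨P, hPle, hPp, -, hPb, hPcard, htr⟩ :=
    exists_full H hab (bot_le : ⊥ ≤ pst G a b) (by rw [hv, Subgroup.card_bot, pow_zero])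
  rw [Subgroup.card_bot, mul_one] at hPcard
  have htrans : ∀ {c e : Ω}, a ≠ c → a ≠ e → ∃ x ∈ P, x • c = e := by
    intro c e hc he
    obtain ⟨x, hx, rfl⟩ := htr c hc
    obtain ⟨y, hy, rfl⟩ := htr e he
    exact ⟨y * x⁻¹, mul_mem hy (inv_mem hx), by simp [mul_smul]⟩
  have hfree : ∀ {x : G} {c : Ω}, x ∈ P → a ≠ c → x • c = c → x = 1 := by
    intro x c hx hc hxc
    obtain ⟨y, hy, rfl⟩ := htr c hc
    have : y⁻¹ * x * y ∈ P ⊓ stabilizer G b := Subgroup.mem_inf.2 ⟨mul_mem (mul_mem (inv_mem hy) hx) hy, by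
      show (y⁻¹ * x * y) • b = b
      rw [mul_smul, mul_smul, hxc, inv_smul_smul]⟩
    rw [hPb, Subgroup.mem_bot] at this
    calc x = y * (y⁻¹ * x * y) * y⁻¹ := by group
      _ = 1 := by rw [this]; group
  have hmem : ∀ {x : G} {c : Ω}, x ∈ P → a ≠ c → x • c ∈ s.blk a c → x ∈ s.ker a :=
    fun {x c} hx hc hxc => (s.full_inf_ker H hc hPle hPp fun e he => htrans hc he).1 x hx hxc
  refine ⟨P, hPle, hPcard, ?_, htrans, hfree, hmem, ?_, ?_⟩
  · intro x hx y hy
    exact congrArg Subtype.val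
      (IsPGroup.commutative_of_card_eq_prime_sq hPcard ⟨x, hx⟩ ⟨y, hy⟩)
  · rw [(s.full_inf_ker H hab hPle hPp htr).2.1, hPb, Subgroup.card_bot, mul_one]
  · intro c e hc he
    obtain ⟨x, hx, rfl⟩ := htrans hc (s.ne_of_mem hc he)
    exact ⟨x, ⟨hx, hmem hx hc he⟩, rfl⟩

/-- The kernel on the blocks acts faithfully on each block. -/
theorem eq_one_of_fix_blk (H : Hyp G Ω p) {s : Sys G Ω p} {k : G} (hk : k ∈ s.ker a) (hab : a ≠ b)
    (hfix : ∀ c ∈ s.blk a b, k • c = c) : k = 1 := by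
  have := Fact.mk H.prime
  have := H.finite
  obtain ⟨P, R⟩ := exists_reg H s a
  set D := P ⊓ s.ker a with hD
  set N := s.ker a ⊓ fixingSubgroup G (s.blk a b) with hN
  have hNn : ∀ d ∈ s.ker a, ∀ n ∈ N, d * n * d⁻¹ ∈ N := by
    intro d hd n hn
    refine ⟨s.conj_mem_ker_self hd.1 hn.1, (mem_fixingSubgroup_iff G).2 fun c hc => ?_⟩
    have hc' : d⁻¹ • c ∈ s.blk a b := by
      have h1 : a ≠ c := s.ne_of_mem hab hc
      rw [← s.eq_of_mem hab hc]
      exact ((inv_mem hd : d⁻¹ ∈ s.ker a).2 c h1)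
    rw [mul_smul, mul_smul, (mem_fixingSubgroup_iff G).1 hn.2 _ hc', smul_inv_smul]
  refine H.faithful k fun c => ?_
  by_cases hac : a = c
  · subst hac; exact hk.1
  by_contra hne
  have hkN : k ∈ N := ⟨hk, (mem_fixingSubgroup_iff G).2 hfix⟩
  obtain ⟨d, hd, hdc⟩ := R.trans_blk hac (hk.2 c hac)
  have hsub : ∀ e ∈ D, e • c ∈ orbit N c := by
    intro e he
    have hz : Subgroup.zpowers d = D := by
      refine Subgroup.eq_of_le_of_card_ge ((Subgroup.zpowers_le).2 hd) ?_
      rw [R.card_inf, Nat.card_zpowers]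
      have hdvd : orderOf d ∣ p := R.card_inf ▸ Subgroup.orderOf_dvd_natCard _ hd
      rcases H.prime.eq_one_or_self_of_dvd _ hdvd with h | h
      · rw [orderOf_eq_one_iff] at h
        rw [h, one_smul] at hdc
        exact absurd hdc.symm hne
      · exact h.ge
    rw [← hz] at he
    obtain ⟨i, rfl⟩ := (mem_powers_iff_mem_zpowers).2 he
    clear he
    induction i with
    | zero => simp
    | succ i ih =>
      obtain ⟨n, hn⟩ := ih
      refine ⟨⟨d * n * d⁻¹, hNn d hd.2 n n.2⟩ * ⟨k, hkN⟩, ?_⟩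
      change ((d * (n : G) * d⁻¹) * k) • c = (d ^ (i + 1)) • c
      rw [mul_smul, ← hdc, ← mul_smul, inv_mul_cancel_right, mul_smul, pow_succ', mul_smul]
      exact congrArg _ hn
  have horb : orbit N c = s.blk a c := by
    refine subset_antisymm ?_ fun e he => ?_
    · rintro _ ⟨n, rfl⟩
      exact n.2.1.2 c hac
    · obtain ⟨d', hd', rfl⟩ := R.trans_blk hac he
      exact hsub d' hd'
  have h1 := card_eq_orbit_mul N c
  rw [horb, s.ncard hac] at h1
  have h2 : N ≤ pst G a b := fun n hn =>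
    ⟨hn.1.1, (mem_fixingSubgroup_iff G).1 hn.2 b (s.self_mem hab)⟩
  exact not_dvd_pst H s hab ((Dvd.intro _ h1.symm).trans (Subgroup.card_dvd_of_le h2))

end Sys

end CfsgLib.Perm.DegreeSqSucc
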