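import Cfsg.Agent.Lib.Perm.PrimeDegree
import Cfsg.Agent.Lib.Perm.DegreeSqSucc.Sylow

/-!
The actions on the blocks and on a single block: Burnside's dichotomy for prime degree.
-/

open MulAction
open scoped Pointwise

namespace CfsgLib.Perm.DegreeSqSucc

/-- A transitive group of prime degree is 2-transitive or affine. -/
theorem prime_dichotomy {K α : Type*} [Group K] [MulAction K α] [Finite α] {p : ℕ} (hp : p.Prime)
    (hα : Nat.card α = p) (htr : ∀ x y : α, ∃ k : K, k • x = y) :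
    (∀ x y z w : α, x ≠ y → z ≠ w → ∃ k : K, k • x = z ∧ k • y = w) ∨
      ∃ e : ZMod p ≃ α, ∀ k : K, ∃ A B : ZMod p, ∀ j, k • e j = e (A * j + B) := by
  have := Fact.mk hp
  let _ : Fintype α := Fintype.ofFinite α
  set Gr := (MulAction.toPermHom K α).range with hGr
  have hα' : Fintype.card α = p := by rw [← Nat.card_eq_fintype_card, hα]
  have : IsPretransitive Gr α := ⟨fun x y => by
    obtain ⟨k, hk⟩ := htr x y
    exact ⟨⟨_, k, rfl⟩, hk⟩⟩
  by_cases hsol : Group.IsSolvable Gr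
  · right
    obtain ⟨σ, e, hσ, he⟩ := CfsgLib.Perm.exists_coord (G := Gr) hα'
    refine ⟨e, fun k => ?_⟩
    obtain ⟨A, B, h⟩ :=
      CfsgLib.Perm.affine_of_isSolvable hα' hsol hσ he (⟨_, k, rfl⟩ : Gr)
    exact ⟨A, B, h⟩
  · left
    intro x y z w hxy hzw
    obtain ⟨⟨_, k, rfl⟩, hk⟩ :=
      is_two_pretransitive_iff.1 (CfsgLib.Perm.two_transitive (G := Gr) hα' hsol) hxy hzw
    exact ⟨k, hk⟩

/-- An affine map with two fixed points is the identity. -/
theorem affine_fix_two {p : ℕ} [Fact p.Prime] {A B i j : ZMod p} (hij : i ≠ j) (hi : A * i + B = i)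
    (hj : A * j + B = j) : A = 1 ∧ B = 0 := by
  have h : (A - 1) * (i - j) = 0 := by linear_combination hi - hj
  have hA : A = 1 := sub_eq_zero.1 ((mul_eq_zero.1 h).resolve_right (sub_ne_zero.2 hij))
  exact ⟨hA, by rw [hA, one_mul, add_eq_left] at hi; exact hi⟩

variable {G Ω : Type*} [Group G] [MulAction G Ω] [Finite G] {p : ℕ}

namespace Sys

variable (s : Sys G Ω p) {a b c : Ω}

omit [Finite G] in
/-- The set of blocks at `a`. -/
theorem smul_blk_stab {g : G} (hg : g • a = a) (hac : a ≠ c) :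
    a ≠ g • c ∧ g • s.blk a c = s.blk a (g • c) := by
  refine ⟨fun e => hac (smul_left_cancel g (hg.trans e)), ?_⟩
  rw [s.smul_blk g hac, hg]

/-- The blocks at `a` with the action of the stabiliser of `a`. -/
def blocks (a : Ω) : SubMulAction ↥(stabilizer G a) (Set Ω) where
  carrier := {T | ∃ c, a ≠ c ∧ s.blk a c = T}
  smul_mem' := by
    rintro ⟨g, hg⟩ _ ⟨c, hc, rfl⟩
    exact ⟨g • c, (s.smul_blk_stab hg hc).1, (s.smul_blk_stab hg hc).2.symm⟩

/-- The point set of a block at `a` with the action of the kernel. -/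
def blockAct (a b : Ω) : SubMulAction ↥(s.ker a) Ω where
  carrier := {c | a ≠ c ∧ s.blk a c = s.blk a b}
  smul_mem' := by
    rintro ⟨k, hk⟩ c ⟨hc, he⟩
    exact ⟨s.ne_of_mem hc (hk.2 c hc), (s.ker_smul hk hc).trans he⟩

omit [Finite G] in
theorem blockAct_eq (hab : a ≠ b) : (s.blockAct a b : Set Ω) = s.blk a b := by
  ext c
  exact ⟨fun h => (s.mem_iff hab h.1).2 h.2, fun h => ⟨s.ne_of_mem hab h, s.eq_of_mem hab h⟩⟩

omit [Finite G] in
theorem card_blocks (H : Hyp G Ω p) (a : Ω) : Nat.card (s.blocks a) = p := by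
  classical
  have := H.finite
  let _ : Fintype Ω := Fintype.ofFinite Ω
  have h := card_of_fibres (Finset.univ.filter (a ≠ ·)) (s.blk a) p fun c hc => by
    rw [Finset.mem_filter] at hc
    rw [← Set.ncard_coe_finset]
    refine Eq.trans ?_ (s.ncard hc.2)
    congr 1
    ext e
    simp only [Finset.coe_filter, Finset.mem_filter, Finset.mem_univ, true_and, Set.mem_setOf_eq]
    exact ⟨fun he => (s.mem_iff hc.2 he.1).2 he.2, fun he =>
      ⟨s.ne_of_mem hc.2 he, s.eq_of_mem hc.2 he⟩⟩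
  have h1 : (Finset.univ.filter (a ≠ ·)).card = p ^ 2 := by
    rw [← H.ncard_compl a, ← Set.ncard_coe_finset]
    congr 1
    ext e
    simp [eq_comm]
  have h2 : ((s.blocks a : Set (Set Ω))) = ↑((Finset.univ.filter (a ≠ ·)).image (s.blk a)) := by
    ext T
    simp [blocks]
    rfl
  rw [show Nat.card (s.blocks a) = (s.blocks a : Set (Set Ω)).ncard from Nat.card_coe_set_eq _, h2,
    Set.ncard_coe_finset]
  rw [h1, pow_two] at h
  exact (Nat.eq_of_mul_eq_mul_right H.prime.pos h).symm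

omit [Finite G] in
theorem exists_other_blk (H : Hyp G Ω p) (hab : a ≠ b) :
    ∃ c, a ≠ c ∧ s.blk a c ≠ s.blk a b := by
  by_contra! h
  have := H.finite
  have hsub : ({a}ᶜ : Set Ω) ⊆ s.blk a b := fun c hc => by
    have hc' : a ≠ c := fun e => hc e.symm
    exact (s.mem_iff hab hc').2 (h c hc')
  have := Set.ncard_le_ncard hsub
  rw [H.ncard_compl, s.ncard hab] at this
  have := H.two_le
  nlinarith

/-- A normal subgroup of a two-point stabiliser fixing a second block fixes all blocks. -/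
theorem le_ker_of_fix_blk (H : Hyp G Ω p) (hab : a ≠ b) (N : Subgroup G) (hN : N ≤ pst G a b)
    (hn : ∀ g ∈ pst G a b, ∀ n ∈ N, g * n * g⁻¹ ∈ N) (hac : a ≠ c)
    (hcb : s.blk a c ≠ s.blk a b) (hfix : ∀ n ∈ N, s.blk a (n • c) = s.blk a c) :
    N ≤ s.ker a := by
  have := Fact.mk H.prime
  have := H.finite
  obtain ⟨P, R⟩ := exists_reg H s a
  let B : s.blocks a := ⟨_, b, hab, rfl⟩
  let C : s.blocks a := ⟨_, c, hac, rfl⟩
  have hsmul : ∀ {g : G} (hg : g • a = a) {e : Ω} (he : a ≠ e),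
      (⟨g, hg⟩ : ↥(stabilizer G a)) • (⟨_, e, he, rfl⟩ : s.blocks a) =
        ⟨_, g • e, (s.smul_blk_stab hg he).1, rfl⟩ :=
    fun {g} hg {e} he => Subtype.ext (s.smul_blk_stab hg he).2
  have htr : ∀ x y : s.blocks a, ∃ k : ↥(stabilizer G a), k • x = y := by
    rintro ⟨_, x, hx, rfl⟩ ⟨_, y, hy, rfl⟩
    obtain ⟨g, hga, hgx⟩ := H.exists_stab_move hx hy
    refine ⟨⟨g, hga⟩, ?_⟩
    rw [hsmul hga hx]
    exact Subtype.ext (by simp only [hgx])
  intro n hn'
  have hna : n • a = a := (hN hn').1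
  refine ⟨hna, fun e he => ?_⟩
  suffices h : (⟨n, hna⟩ : ↥(stabilizer G a)) • (⟨_, e, he, rfl⟩ : s.blocks a) = ⟨_, e, he, rfl⟩ by
    rw [hsmul hna he] at h
    exact (s.mem_iff he (s.smul_blk_stab hna he).1).2 (congrArg Subtype.val h)
  have hnB : ∀ n ∈ N, ∀ hna : n • a = a, (⟨n, hna⟩ : ↥(stabilizer G a)) • B = B := fun n hn hna => by
    rw [hsmul hna hab]
    exact Subtype.ext (by simp only [mem_stabilizer_iff.1 (hN hn).2]; rfl)
  have hnC : ∀ n ∈ N, ∀ hna : n • a = a, (⟨n, hna⟩ : ↥(stabilizer G a)) • C = C := fun n hn hna => by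
    rw [hsmul hna hac]
    exact Subtype.ext (hfix n hn)
  set E : s.blocks a := ⟨_, e, he, rfl⟩ with hE
  have hBC : C ≠ B := fun h => hcb (congrArg Subtype.val h)
  rcases prime_dichotomy H.prime (s.card_blocks H a) htr with h2 | ⟨ε, haff⟩
  · by_cases hEB : E = B
    · rw [hEB]; exact hnB n hn' hna
    obtain ⟨⟨g, hga⟩, hgB, hgC⟩ := h2 B C B E hBC.symm (Ne.symm hEB)
    have hga' : g • a = a := hga
    rw [hsmul hga' hab] at hgB
    rw [hsmul hga' hac] at hgC
    have hgb : s.blk a (g • b) = s.blk a b := congrArg Subtype.val hgB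
    have hgc : s.blk a (g • c) = s.blk a e := congrArg Subtype.val hgC
    have hgb' : g • b ∈ s.blk a b := (s.mem_iff hab (s.smul_blk_stab hga' hab).1).2 hgb
    obtain ⟨d, hd, hdb⟩ := R.trans_blk (s.smul_blk_stab hga' hab).1
      (show b ∈ s.blk a (g • b) from hgb.symm ▸ s.self_mem hab)
    set g' := d * g with hg'
    have hg'mem : g' ∈ pst G a b := Subgroup.mem_inf.2
      ⟨mul_mem (R.le hd.1) hga, by rw [mem_stabilizer_iff, hg', mul_smul, hdb]⟩
    have hac' := (s.smul_blk_stab hga' hac).1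
    have hEC : (⟨g', hg'mem.1⟩ : ↥(stabilizer G a)) • C = E := by
      rw [hsmul (hg'mem.1 : g' • a = a) hac]
      refine Subtype.ext ?_
      show s.blk a ((d * g) • c) = s.blk a e
      rw [mul_smul, s.ker_smul hd.2 hac', hgc]
    have hm : g'⁻¹ * n * g' ∈ N := by
      have := hn g'⁻¹ (inv_mem hg'mem) n hn'
      rwa [inv_inv] at this
    have := hnC _ hm (hN hm).1
    rw [← hEC]
    refine (smul_left_cancel (⟨g', hg'mem.1⟩ : ↥(stabilizer G a))⁻¹ ?_)
    rw [inv_smul_smul, ← mul_smul, ← mul_smul]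
    exact this
  · obtain ⟨A, D, hAD⟩ := haff ⟨n, hna⟩
    have hB := hAD (ε.symm B)
    have hC := hAD (ε.symm C)
    rw [ε.apply_symm_apply, hnB n hn' hna] at hB
    rw [ε.apply_symm_apply, hnC n hn' hna] at hC
    obtain ⟨rfl, rfl⟩ := affine_fix_two (fun h => hBC.symm (ε.symm.injective h))
      (ε.injective (hB.symm.trans (ε.apply_symm_apply B).symm))
      (ε.injective (hC.symm.trans (ε.apply_symm_apply C).symm))
    obtain ⟨j, hj⟩ := ε.surjective E
    rw [← hj, hAD j, one_mul, add_zero]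

end Sys

end CfsgLib.Perm.DegreeSqSucc
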