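import Mathlib

/-!
Convolution powers of a subset `S` of `ZMod p`: if the `p`-th power, shifted, is constant off zero
then `S` has at most one or at least `p - 1` elements.
-/

open Finset

namespace CfsgLib.Perm.DegreeSqSucc

variable {p : ℕ} [Fact p.Prime]

/-- The number of ways to write an element as a sum of `l` elements of `S`. -/
def conv (S : Finset (ZMod p)) : ℕ → ZMod p → ℕ
  | 0, j => if j = 0 then 1 else 0
  | l + 1, j => ∑ i ∈ univ.filter (fun i => j - i ∈ S), conv S l i

theorem conv_invariant (S : Finset (ZMod p)) (σ : ℕ → ZMod p → ZMod p)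
    (hbij : ∀ l, Function.Bijective (σ l)) (h0 : σ 0 0 = 0)
    (hrel : ∀ l i j, σ (l + 1) j - σ l i ∈ S ↔ j - i ∈ S) :
    ∀ l j, conv S l (σ l j) = conv S l j := by
  intro l
  induction l with
  | zero =>
    intro j
    simp only [conv]
    rcases eq_or_ne j 0 with rfl | hj
    · rw [h0]
    · rw [if_neg hj, if_neg fun e => hj ((hbij 0).1 (e.trans h0.symm))]
  | succ l ih =>
    intro j
    simp only [conv, sum_filter]
    rw [← Equiv.sum_comp (Equiv.ofBijective _ (hbij l))]
    refine sum_congr rfl fun i _ => ?_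
    simp only [Equiv.ofBijective_apply, ih i]
    exact if_congr (hrel l i j) rfl rfl

theorem sum_conv {R : Type*} [CommSemiring R] (S : Finset (ZMod p)) (z : ZMod p → R) (h0 : z 0 = 1)
    (hz : ∀ i j, z (i + j) = z i * z j) (l : ℕ) :
    ∑ j, (conv S l j : R) * z j = (∑ s ∈ S, z s) ^ l := by
  induction l with
  | zero => simp [conv, h0]
  | succ l ih =>
    rw [pow_succ, ← ih, sum_mul]
    simp only [conv, sum_filter, Nat.cast_sum, sum_mul]
    rw [sum_comm]
    refine sum_congr rfl fun i _ => ?_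
    rw [mul_sum, ← Equiv.sum_comp (Equiv.addLeft i)]
    simp only [Equiv.coe_addLeft, add_sub_cancel_left, apply_ite (Nat.cast : ℕ → R), Nat.cast_zero,
      ite_mul, zero_mul, hz, ← mul_assoc]
    rw [← sum_filter]
    exact sum_congr (by ext; simp) fun _ _ => rfl

/-- Modulo `p` the `p`-th convolution power is concentrated at zero. -/
theorem conv_prime_mod (S : Finset (ZMod p)) (j : ZMod p) :
    (conv S p j : ZMod p) = if j = 0 then (S.card : ZMod p) else 0 := by
  classical
  let z : ZMod p → AddMonoidAlgebra (ZMod p) (ZMod p) := fun i => AddMonoidAlgebra.single i 1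
  have : CharP (AddMonoidAlgebra (ZMod p) (ZMod p)) p :=
    charP_of_injective_algebraMap (algebraMap (ZMod p) _).injective p
  have hs := sum_conv S z rfl (fun i k => by
    simp only [z, AddMonoidAlgebra.single_mul_single, mul_one]) p
  rw [sum_pow_char] at hs
  have h1 : ∀ i, z i ^ p = AddMonoidAlgebra.single 0 1 := fun i => by
    simp [z, AddMonoidAlgebra.single_pow]
  have h2 : ∀ k, (conv S p k : AddMonoidAlgebra (ZMod p) (ZMod p)) * z k
      = AddMonoidAlgebra.single k (conv S p k : ZMod p) := fun k => by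
    rw [← nsmul_eq_mul, AddMonoidAlgebra.smul_single, nsmul_one]
  simp only [h1, h2, sum_const, AddMonoidAlgebra.smul_single, nsmul_one] at hs
  have hj := congrArg (fun f => f.coeff j) hs
  simp [Finsupp.single_apply, eq_comm] at hj
  rw [hj]

section Roots

variable {ζ : ℂ} (hζ : IsPrimitiveRoot ζ p)
include hζ

/-- A vanishing rational combination of the `p`-th roots of unity is constant. -/
theorem coeff_const (a : ZMod p → ℚ) (h : ∑ j, (a j : ℂ) * ζ ^ j.val = 0) (i j : ZMod p) :
    a i = a j := by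
  have hp := (Fact.out : p.Prime)
  let A : Polynomial ℚ := ∑ j : ZMod p, Polynomial.C (a j) * Polynomial.X ^ j.val
  have hA : Polynomial.aeval ζ A = 0 := by simpa [A] using h
  have hdvd : Polynomial.cyclotomic p ℚ ∣ A := by
    rw [Polynomial.cyclotomic_eq_minpoly_rat hζ hp.pos]
    exact minpoly.dvd _ _ hA
  have hdeg : A.natDegree ≤ p - 1 := Polynomial.natDegree_sum_le_of_forall_le _ _ fun k _ =>
    (Polynomial.natDegree_C_mul_X_pow_le _ _).trans (by have := k.val_lt; omega)
  have hcoeff : ∀ k : ZMod p, A.coeff k.val = a k := by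
    intro k
    rw [Polynomial.finsetSum_coeff, sum_eq_single k]
    · simp
    · intro b _ hb
      rw [Polynomial.coeff_C_mul_X_pow, if_neg fun e => hb (ZMod.val_injective p e).symm]
    · simp
  obtain ⟨c, hc⟩ := hdvd
  rcases eq_or_ne A 0 with hA0 | hA0
  · rw [← hcoeff, ← hcoeff, hA0]; simp
  have hc0 : c.natDegree = 0 := by
    have h1 : c ≠ 0 := fun e => hA0 (by rw [hc, e, mul_zero])
    have := Polynomial.natDegree_mul (Polynomial.cyclotomic_ne_zero p ℚ) h1
    rw [← hc, Polynomial.natDegree_cyclotomic, Nat.totient_prime hp] at this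
    omega
  obtain ⟨r, rfl⟩ := Polynomial.natDegree_eq_zero.1 hc0
  have hall : ∀ k : ZMod p, a k = r := by
    intro k
    rw [← hcoeff, hc, Polynomial.cyclotomic_prime, Polynomial.coeff_mul_C,
      Polynomial.finsetSum_coeff]
    simp [Polynomial.coeff_X_pow, k.val_lt]
  rw [hall, hall]

theorem eq_or_trivial_of_sum_eq (S T : Finset (ZMod p)) (hc : S.card = T.card)
    (h : ∑ s ∈ S, ζ ^ s.val = ∑ s ∈ T, ζ ^ s.val) : S = T := by
  classical
  let a : ZMod p → ℚ := fun j => (if j ∈ S then 1 else 0) - (if j ∈ T then 1 else 0)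
  have ha : ∑ j, (a j : ℂ) * ζ ^ j.val = 0 := by
    simp [a, sub_mul, apply_ite (Rat.cast : ℚ → ℂ), ite_mul, h]
  have hsum : ∑ j, a j = 0 := by simp [a, hc]
  have h0 : ∀ j, a j = 0 := by
    intro j
    rw [sum_congr rfl (fun i _ => coeff_const hζ a ha i j), sum_const, card_univ, ZMod.card,
      nsmul_eq_mul] at hsum
    exact (mul_eq_zero.1 hsum).resolve_left (by exact_mod_cast (Fact.out : p.Prime).ne_zero)
  ext j
  have := h0 j
  simp only [a] at this
  by_cases h1 : j ∈ S <;> by_cases h2 : j ∈ T <;> simp [h1, h2] at this ⊢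

theorem sum_ne_zero (S : Finset (ZMod p)) (h1 : S.Nonempty) (h2 : S.card < p) :
    ∑ s ∈ S, ζ ^ s.val ≠ 0 := by
  classical
  intro h
  let a : ZMod p → ℚ := fun j => if j ∈ S then 1 else 0
  have ha : ∑ j, (a j : ℂ) * ζ ^ j.val = 0 := by
    simp [a, apply_ite (Rat.cast : ℚ → ℂ), ite_mul, h]
  obtain ⟨i, hi⟩ := h1
  obtain ⟨j, hj⟩ : ∃ j, j ∉ S := by
    by_contra! hall
    rw [eq_univ_of_forall hall, card_univ, ZMod.card] at h2
    exact lt_irrefl _ h2
  have := coeff_const hζ a ha i j
  simp [a, hi, hj] at this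

/-- An affine map with multiplier a generator preserves only trivial sets. -/
theorem card_of_shift (S : Finset (ZMod p))
    (h : ∀ g : ZMod p, g ≠ 0 → ∃ m : ZMod p, ∀ x ∈ S, g * x - m ∈ S) :
    S.card ≤ 1 ∨ p - 1 ≤ S.card := by
  classical
  have hp := (Fact.out : p.Prime)
  obtain ⟨u, hu⟩ := IsCyclic.exists_generator (α := (ZMod p)ˣ)
  by_cases hu1 : (u : ZMod p) = 1
  · have hall : ∀ x : (ZMod p)ˣ, x = 1 := fun x => by
      have := hu x
      rw [Units.val_eq_one.1 hu1, Subgroup.zpowers_one_eq_bot, Subgroup.mem_bot] at this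
      exact this
    have : Fintype.card (ZMod p)ˣ = 1 := Fintype.card_eq_one_iff.2 ⟨1, hall⟩
    rw [ZMod.card_units] at this
    omega
  obtain ⟨m, hm⟩ := h u u.ne_zero
  set x₀ : ZMod p := m / ((u : ZMod p) - 1)
  have hx0 : (u : ZMod p) * x₀ - m = x₀ := by
    have h1 : (u : ZMod p) - 1 ≠ 0 := sub_ne_zero.2 hu1
    simp only [x₀]; field_simp; ring
  by_cases hex : ∃ x ∈ S, x ≠ x₀
  · right
    obtain ⟨x, hx, hne⟩ := hex
    have hpow : ∀ k : ℕ, x₀ + (u : ZMod p) ^ k * (x - x₀) ∈ S := by
      intro k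
      induction k with
      | zero => simpa using hx
      | succ k ih =>
        have := hm _ ih
        rwa [show (u : ZMod p) * (x₀ + (u : ZMod p) ^ k * (x - x₀)) - m =
          x₀ + (u : ZMod p) ^ (k + 1) * (x - x₀) by linear_combination hx0] at this
    have hsub : univ.erase x₀ ⊆ S := by
      intro y hy
      have hy1 : y - x₀ ≠ 0 := sub_ne_zero.2 (ne_of_mem_erase hy)
      have hx1 : x - x₀ ≠ 0 := sub_ne_zero.2 hne
      obtain ⟨k, hk⟩ := (mem_powers_iff_mem_zpowers).2
        (hu (Units.mk0 ((y - x₀) / (x - x₀)) (div_ne_zero hy1 hx1)))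
      have hk' : (u : ZMod p) ^ k = (y - x₀) / (x - x₀) := by
        have := congrArg Units.val hk
        simpa using this
      have := hpow k
      rwa [hk', div_mul_cancel₀ _ hx1, add_sub_cancel] at this
    have := card_le_card hsub
    rwa [card_erase_of_mem (mem_univ _), card_univ, ZMod.card] at this
  · left
    push Not at hex
    exact (card_le_card (fun x hx => mem_singleton.2 (hex x hx))).trans (card_singleton x₀).le

end Roots

theorem card_of_const (hp2 : p ≠ 2) (S : Finset (ZMod p)) (e : ZMod p)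
    (h : ∀ i j : ZMod p, i ≠ 0 → j ≠ 0 → conv S p (i - e) = conv S p (j - e)) :
    S.card ≤ 1 ∨ p - 1 ≤ S.card := by
  classical
  have hp := (Fact.out : p.Prime)
  by_contra! hcon
  obtain ⟨hS1, hS2⟩ := hcon
  have he : e = 0 := by
    by_contra he
    have h2 : e + e ≠ 0 := by
      intro h2
      rw [← two_mul] at h2
      rcases mul_eq_zero.1 h2 with h2 | h2
      · have : ((2 : ℕ) : ZMod p) = 0 := by exact_mod_cast h2
        rw [ZMod.natCast_eq_zero_iff] at this
        exact hp2 ((Nat.prime_dvd_prime_iff_eq hp Nat.prime_two).1 this)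
      · exact he h2
    have := congrArg (Nat.cast : ℕ → ZMod p) (h e (e + e) he h2)
    rw [sub_self, add_sub_cancel_right, conv_prime_mod, conv_prime_mod, if_pos rfl, if_neg he,
      ZMod.natCast_eq_zero_iff] at this
    have := Nat.le_of_dvd (by omega) this
    omega
  subst he
  simp only [sub_zero] at h
  let ζ : ℂ := Complex.exp (2 * Real.pi * Complex.I / p)
  have hζ : IsPrimitiveRoot ζ p := Complex.isPrimitiveRoot_exp p hp.ne_zero
  let z : ZMod p → ℂ := fun j => ζ ^ j.val
  have hz : ∀ i j, z (i + j) = z i * z j := fun i j => by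
    simp only [z, ← pow_add, ZMod.val_add]
    rw [← pow_mod_orderOf ζ (i.val + j.val), ← hζ.eq_orderOf]
  have hne := sum_ne_zero hζ S (Finset.card_pos.1 (by omega)) (by omega)
  have hgal : ∀ g : ZMod p, g ≠ 0 →
      (∑ s ∈ S, z (g * s)) ^ p = (conv S p 0 : ℂ) - conv S p 1 := by
    intro g hg
    have hs := sum_conv S (fun j => z (g * j)) (by simp [z]) (fun i j => by
      simp only [mul_add, hz]) p
    rw [← hs]
    have htot : ∑ j, z (g * j) = 0 := by
      have h1 : ∑ j, z (g * j) = ∑ j, z j := Equiv.sum_comp (Equiv.mulLeft₀ g hg) z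
      rw [h1]
      have hgeo := hζ.geom_sum_eq_zero hp.one_lt
      rw [← hgeo]
      refine Finset.sum_nbij (fun j => j.val) (fun j _ => mem_range.2 j.val_lt)
        (fun i _ j _ e => ZMod.val_injective p e) (fun k hk => ?_) fun j _ => rfl
      exact ⟨(k : ZMod p), mem_coe.2 (mem_univ _), ZMod.val_natCast_of_lt (mem_range.1 hk)⟩
    calc ∑ j, (conv S p j : ℂ) * z (g * j)
        = ∑ j, ((conv S p 1 : ℂ) * z (g * j)
            + if j = 0 then (conv S p 0 : ℂ) - conv S p 1 else 0) := by
          refine sum_congr rfl fun j _ => ?_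
          by_cases hj : j = 0
          · subst hj; simp [z]
          · rw [if_neg hj, add_zero, h j 1 hj one_ne_zero]
      _ = _ := by rw [sum_add_distrib, ← mul_sum, htot]; simp
  refine absurd (card_of_shift hζ S fun g hg => ?_) (by omega)
  have h1 := hgal 1 one_ne_zero
  simp only [one_mul] at h1
  have hu : ((∑ s ∈ S, z (g * s)) / ∑ s ∈ S, z s) ^ p = 1 := by
    rw [div_pow, hgal g hg, ← h1, div_self (pow_ne_zero _ hne)]
  have : NeZero p := ⟨hp.ne_zero⟩
  obtain ⟨m, hm, hm'⟩ := hζ.eq_pow_of_pow_eq_one hu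
  refine ⟨(m : ZMod p), fun x hx => ?_⟩
  have heq : ∑ s ∈ S, z (g * s) = ∑ s ∈ S, z (s + m) := by
    simp only [hz, ← sum_mul]
    have : z (m : ZMod p) = ζ ^ m := by simp only [z, ZMod.val_natCast_of_lt hm]
    rw [this, hm', mul_div_cancel₀ _ hne]
  have himg : S.image (g * ·) = S.image (· + (m : ZMod p)) := by
    refine eq_or_trivial_of_sum_eq hζ _ _ ?_ ?_
    · rw [card_image_of_injective _ (mul_right_injective₀ hg),
        card_image_of_injective _ (add_left_injective _)]
    · rw [sum_image fun _ _ _ _ e => mul_right_injective₀ hg e,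
        sum_image fun _ _ _ _ e => add_left_injective _ e]
      exact heq
  have : g * x ∈ S.image (· + (m : ZMod p)) := himg ▸ mem_image_of_mem _ hx
  obtain ⟨y, hy, hye⟩ := mem_image.1 this
  rwa [← hye, add_sub_cancel_right]

end CfsgLib.Perm.DegreeSqSucc
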