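import Cfsg.Agent.Lib.Perm.DegreeSqSucc.Classes
import Cfsg.Agent.Lib.Perm.DegreeSqSucc.Cyclo

/-!
The point stabilisers in the kernel separate the points: then an invariant relation between two
blocks would have a `p`-th power which is scalar modulo the all-one matrix, which is impossible.
-/

open MulAction
open scoped Pointwise

namespace CfsgLib.Perm.DegreeSqSucc

variable {G Ω : Type*} [Group G] [MulAction G Ω] [Finite G] {p : ℕ}

namespace Sys

variable {s : Sys G Ω p} (H : Hyp G Ω p) (hA : ∀ a b : Ω, a ≠ b → ∃ k ∈ s.kst a b, k ≠ 1)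
  (hsep : ∀ a b c : Ω, a ≠ b → a ≠ c → s.kst a b = s.kst a c → c = b) {a b c : Ω}

include H hA hsep

theorem kst_trans {x x' : Ω} (hab : a ≠ b) (hx : x ∈ s.blk a b) (hxb : x ≠ b)
    (hx' : x' ∈ s.blk a b) (hx'b : x' ≠ b) : ∃ k ∈ s.kst a b, k • x = x' := by
  have := Fact.mk H.prime
  have := H.finite
  have hset := s.blockAct_eq hab
  have hmem : ∀ {z : Ω}, z ∈ s.blk a b ↔ z ∈ s.blockAct a b := fun {z} => (Set.ext_iff.1 hset z).symm
  have hcard : Nat.card (s.blockAct a b) = p := by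
    rw [show Nat.card (s.blockAct a b) = (s.blockAct a b : Set Ω).ncard from Nat.card_coe_set_eq _,
      hset]
    exact s.ncard hab
  have htr : ∀ u v : s.blockAct a b, ∃ k : s.ker a, k • u = v := by
    intro u v
    obtain ⟨P, R⟩ := exists_reg H s a
    obtain ⟨d, hd, hdu⟩ := R.trans_blk (b := (u : Ω)) (c := (v : Ω)) u.2.1
      ((s.mem_iff u.2.1 v.2.1).2 (v.2.2.trans u.2.2.symm))
    exact ⟨⟨d, hd.2⟩, Subtype.ext hdu⟩
  rcases prime_dichotomy H.prime hcard htr with h2 | ⟨ε, haff⟩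
  · obtain ⟨k, hk1, hk2⟩ := h2 ⟨b, hmem.1 (s.self_mem hab)⟩ ⟨x, hmem.1 hx⟩
      ⟨b, hmem.1 (s.self_mem hab)⟩ ⟨x', hmem.1 hx'⟩
      (fun e => hxb (congrArg Subtype.val e).symm) (fun e => hx'b (congrArg Subtype.val e).symm)
    exact ⟨k, ⟨k.2, congrArg Subtype.val hk1⟩, congrArg Subtype.val hk2⟩
  exfalso
  -- affine on one block: the stabilisers in the kernel fix a point in every block
  have haff' : ∀ k ∈ s.ker a, ∃ A B : ZMod p, ∀ j, k • (ε j : Ω) = ε (A * j + B) := by
    intro k hk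
    obtain ⟨A, B, h⟩ := haff ⟨k, hk⟩
    exact ⟨A, B, fun j => congrArg Subtype.val (h j)⟩
  have hcomm : ∀ k ∈ s.kst a b, ∀ k' ∈ s.kst a b, k * k' = k' * k := by
    intro k hk k' hk'
    obtain ⟨A, B, h⟩ := haff' k hk.1
    obtain ⟨A', B', h'⟩ := haff' k' hk'.1
    set j₀ := ε.symm ⟨b, hmem.1 (s.self_mem hab)⟩ with hj0
    have hb : (ε j₀ : Ω) = b := by rw [hj0, ε.apply_symm_apply]
    have e1 : A * j₀ + B = j₀ := ε.injective (Subtype.ext (by
      rw [← h, hb, mem_stabilizer_iff.1 hk.2]))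
    have e2 : A' * j₀ + B' = j₀ := ε.injective (Subtype.ext (by
      rw [← h', hb, mem_stabilizer_iff.1 hk'.2]))
    have hfix : ∀ z ∈ s.blk a b, (k * k') • z = (k' * k) • z := by
      intro z hz
      obtain ⟨j, hj⟩ := ε.surjective ⟨z, hmem.1 hz⟩
      have hjz : (ε j : Ω) = z := congrArg Subtype.val hj
      rw [← hjz, mul_smul, mul_smul, h', h, h, h']
      congr 2
      linear_combination (1 - A') * e1 - (1 - A) * e2
    refine (inv_mul_eq_one.1 (eq_one_of_fix_blk H (mul_mem (inv_mem (mul_mem hk'.1 hk.1))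
      (mul_mem hk.1 hk'.1)) hab fun z hz => ?_)).symm
    rw [mul_smul, inv_smul_eq_iff]
    exact hfix z hz
  obtain ⟨c, hac, hcb⟩ := s.exists_other_blk H hab
  obtain ⟨k, hk, hk1⟩ := hA a b hab
  obtain ⟨g, hga, hgb⟩ := H.exists_stab_move hab hac
  have hga' : g⁻¹ • a = a := by rw [inv_smul_eq_iff, hga]
  have hconj : g⁻¹ * k * g ∈ s.ker a := by
    have := s.conj_mem_ker_self hga' hk.1
    rwa [inv_inv] at this
  obtain ⟨A, B, hAB⟩ := haff' _ hconj
  have hblkc : ∀ z, z ∈ s.blk a c → ∃ j, z = g • (ε j : Ω) := by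
    intro z hz
    rw [← hga, ← hgb, ← s.smul_blk g hab] at hz
    obtain ⟨w, hw, rfl⟩ := hz
    obtain ⟨j, hj⟩ := ε.surjective ⟨w, hmem.1 hw⟩
    exact ⟨j, by rw [hj]⟩
  have hfixk : ∀ j, k • g • (ε j : Ω) = g • (ε (A * j + B) : Ω) := fun j => by
    rw [← hAB, mul_smul, mul_smul, smul_inv_smul]
  have hA1 : A ≠ 1 := by
    rintro rfl
    have hpow : ∀ (n : ℕ) j, (k ^ n) • g • (ε j : Ω) = g • (ε (j + n * B) : Ω) := by
      intro n
      induction n with
      | zero => simp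
      | succ n ih =>
        intro j
        rw [pow_succ', mul_smul, ih, hfixk]
        congr 3
        push_cast; ring
    have hkp : k ^ p = 1 := eq_one_of_fix_blk H (pow_mem hk.1 p) hac fun z hz => by
      obtain ⟨j, rfl⟩ := hblkc z hz
      rw [hpow, ZMod.natCast_self, zero_mul, add_zero]
    have hdvd : orderOf k ∣ Nat.card ↥(pst G a b) :=
      Subgroup.orderOf_dvd_natCard _ ⟨hk.1.1, hk.2⟩
    rcases H.prime.eq_one_or_self_of_dvd _ (orderOf_dvd_of_pow_eq_one hkp) with h | h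
    · exact hk1 (orderOf_eq_one_iff.1 h)
    · exact not_dvd_pst H s hab (h ▸ hdvd)
  set j₀ : ZMod p := B / (1 - A) with hj₀
  have hne : (1 : ZMod p) - A ≠ 0 := sub_ne_zero.2 (Ne.symm hA1)
  have hj : A * j₀ + B = j₀ := by rw [hj₀]; field_simp; ring
  set x₀ := g • (ε j₀ : Ω) with hx₀
  have hgblk : ∀ j, g • (ε j : Ω) ∈ s.blk a c := fun j => by
    have := s.smul_mem g hab (hmem.2 (ε j).2)
    rwa [hga, hgb] at this
  have hx0a : a ≠ x₀ := s.ne_of_mem hac (hgblk j₀)
  have hall : ∀ k' ∈ s.kst a b, k' • x₀ = x₀ := by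
    intro k' hk'
    have hmem' : k' • x₀ ∈ s.blk a c := by
      have h1 := hk'.1.2 x₀ hx0a
      rwa [s.eq_of_mem hac (hgblk j₀)] at h1
    obtain ⟨j, hj'⟩ := hblkc _ hmem'
    have h1 : k • k' • x₀ = k' • x₀ := by
      rw [← mul_smul, hcomm k hk k' hk', mul_smul, hx₀, hfixk, hj]
    rw [hj', hfixk] at h1
    have h2 : A * j + B = j := ε.injective (Subtype.ext (smul_left_cancel g h1))
    have : j = j₀ := by
      rw [hj₀, eq_div_iff hne]; linear_combination -h2
    rw [hj', this]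
  have := hsep a b x₀ hab hx0a (kst_eq_of_fix H hab hx0a hall)
  exact hcb (by rw [← s.eq_of_mem hac (hgblk j₀), ← hx₀, this])

theorem caseA2_false (hab : a ≠ b) : False := by
  classical
  have := Fact.mk H.prime
  have := H.finite
  -- a point of `blk b a` outside the block of `b` at `a`
  obtain ⟨c, hcba, hca, hcab⟩ : ∃ c, c ∈ s.blk b a ∧ c ≠ a ∧ c ∉ s.blk a b := by
    by_contra! h
    obtain ⟨c, hc, hca⟩ := Set.exists_ne_of_one_lt_ncard (s := s.blk b a)
      (by rw [s.ncard hab.symm]; exact H.prime.one_lt) a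
    have hcab := h c hc hca
    have hcb : c ≠ b := fun e => s.not_mem hab.symm (e ▸ hc)
    refine s.line_ne H hab (Set.eq_of_subset_of_ncard_le ?_
      (by rw [s.ncard_line hab, s.ncard_line hab.symm]))
    intro z hz
    rcases Set.mem_insert_iff.1 hz with rfl | hz
    · exact Set.mem_insert_of_mem _ (s.self_mem hab.symm)
    · by_cases hzb : z = b
      · exact hzb ▸ Set.mem_insert _ _
      · obtain ⟨k, hk, rfl⟩ := kst_trans H hA hsep hab hcab hcb hz hzb
        have := s.smul_mem k hab.symm hc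
        rw [mem_stabilizer_iff.1 hk.2, hk.1.1] at this
        exact Set.mem_insert_of_mem _ this
  have hac : a ≠ c := Ne.symm hca
  have hblk : s.blk a c ≠ s.blk a b := fun e => hcab (e ▸ s.self_mem hac)
  set T : Set Ω := s.blk b a ∩ s.blk a c with hT
  have hTinv : ∀ h ∈ s.kst a b, ∀ z ∈ T, h • z ∈ T := by
    intro h hh z hz
    refine ⟨?_, ?_⟩
    · have := s.smul_mem h hab.symm hz.1
      rwa [mem_stabilizer_iff.1 hh.2, hh.1.1] at this
    · rw [← s.eq_of_mem hac hz.2]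
      exact hh.1.2 z (s.ne_of_mem hac hz.2)
  obtain ⟨P, R⟩ := exists_reg H s a
  obtain ⟨y, hy, hyb⟩ := R.trans hab hac
  obtain ⟨d₀, hd₀mem, hd₀⟩ : ∃ d ∈ P ⊓ s.ker a, d ≠ 1 := by
    by_contra! h
    have := (Subgroup.eq_bot_iff_forall _).2 h
    have h1 := R.card_inf
    rw [this, Subgroup.card_bot] at h1
    exact H.prime.one_lt.ne h1
  have hd_ord : orderOf d₀ = p :=
    ((H.prime.eq_one_or_self_of_dvd _ (R.card_inf ▸ Subgroup.orderOf_dvd_natCard _ hd₀mem))
      ).resolve_left (fun e => hd₀ (orderOf_eq_one_iff.1 e))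
  have hz : Subgroup.zpowers d₀ = P ⊓ s.ker a :=
    Subgroup.eq_of_le_of_card_ge ((Subgroup.zpowers_le).2 hd₀mem)
      (by rw [R.card_inf, Nat.card_zpowers, hd_ord])
  let ρ : ZMod p → G := fun j => d₀ ^ j.val
  have hρadd : ∀ i j, ρ (i + j) = ρ i * ρ j := fun i j => by
    simp only [ρ, ← pow_add, ZMod.val_add]
    rw [← pow_mod_orderOf d₀ (i.val + j.val), hd_ord]
  have hρ0 : ρ 0 = 1 := by simp [ρ]
  have hρmem : ∀ j, ρ j ∈ P ⊓ s.ker a := fun j => pow_mem hd₀mem _
  have hρsurj : ∀ x ∈ P ⊓ s.ker a, ∃ j, ρ j = x := by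
    intro x hx
    rw [← hz] at hx
    obtain ⟨n, rfl⟩ := (mem_powers_iff_mem_zpowers).2 hx
    refine ⟨n, ?_⟩
    simp only [ρ, ZMod.val_natCast, ← hd_ord, pow_mod_orderOf]
  have hρfree : ∀ {u : Ω}, a ≠ u → Function.Injective fun j => ρ j • u := by
    intro u hu i j e
    have h1 : ρ (i - j) • u = u := by
      have h2 : ρ (i - j) * ρ j = ρ i := by rw [← hρadd, sub_add_cancel]
      have h3 : ρ i = ρ j * ρ (i - j) := by rw [← hρadd, add_sub_cancel]
      have e' : ρ i • u = ρ j • u := e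
      rw [h3, mul_smul] at e'
      exact smul_left_cancel _ e'
    have h4 := R.free (hρmem _).1 hu h1
    have h5 : orderOf d₀ ∣ (i - j).val := orderOf_dvd_of_pow_eq_one h4
    rw [hd_ord] at h5
    have h6 : (i - j).val = 0 := Nat.eq_zero_of_dvd_of_lt h5 (i - j).val_lt
    exact sub_eq_zero.1 ((ZMod.val_eq_zero _).1 h6)
  have hρblk : ∀ {u z : Ω}, a ≠ u → z ∈ s.blk a u → ∃ j, ρ j • u = z := by
    intro u z hu hzu
    obtain ⟨x, hx, hxu⟩ := R.trans_blk hu hzu
    obtain ⟨j, rfl⟩ := hρsurj x hx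
    exact ⟨j, hxu⟩
  have hρblk' : ∀ {u : Ω}, a ≠ u → ∀ j, ρ j • u ∈ s.blk a u :=
    fun {u} hu j => (hρmem j).2.2 u hu
  have hρy : ∀ j, ρ j * y = y * ρ j := fun j => R.comm _ (hρmem j).1 y hy
  -- the action of the kernel on the block of `b`
  have hτex : ∀ (k : s.ker a) (i : ZMod p), ∃ i', ρ i' • b = (k : G) • ρ i • b := by
    intro k i
    refine hρblk hab ?_
    have h1 := hρblk' hab i
    rw [← s.eq_of_mem hab h1]
    exact k.2.2 _ (s.ne_of_mem hab h1)
  choose τ hτ using hτex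
  have hτbij : ∀ k, Function.Bijective (τ k) := fun k =>
    Finite.injective_iff_bijective.1 fun i j e =>
      hρfree hab (smul_left_cancel (k : G) (show (k : G) • ρ i • b = (k : G) • ρ j • b by
        rw [← hτ, ← hτ, e]))
  set S : Finset (ZMod p) := Finset.univ.filter fun j => ρ j • c ∈ T with hS
  have hrel : ∀ (k : s.ker a) (hk : y⁻¹ * (k : G) * y ∈ s.ker a) (i j : ZMod p),
      τ ⟨_, hk⟩ j - τ k i ∈ S ↔ j - i ∈ S := by
    intro k hk i j
    set i' := τ k i with hi'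
    set j' := τ ⟨_, hk⟩ j with hj'
    set h := ρ (-i') * (k : G) * ρ i with hh
    have hhK : h ∈ s.ker a := mul_mem (mul_mem (hρmem _).2 k.2) (hρmem _).2
    have hhb : h • b = b := by
      rw [hh, mul_smul, mul_smul, ← hτ k i, ← mul_smul, ← hρadd, ← hi', neg_add_cancel, hρ0,
        one_smul]
    have hmap : h • ρ (j - i) • c = ρ (j' - i') • c := by
      have e1 : (k : G) • ρ j • c = ρ j' • c := by
        have e2 := hτ ⟨_, hk⟩ j
        rw [← hj'] at e2
        rw [← hyb, ← mul_smul (ρ j) y, hρy, mul_smul y, ← mul_smul (ρ j') y, hρy, mul_smul y, e2]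
        simp only [mul_smul, smul_inv_smul]
      rw [hh, mul_smul, mul_smul, ← mul_smul (ρ i), ← hρadd, add_sub_cancel, e1, ← mul_smul,
        ← hρadd, neg_add_eq_sub]
    simp only [hS, Finset.mem_filter, Finset.mem_univ, true_and]
    constructor
    · intro hmemT
      have := hTinv h⁻¹ (Subgroup.mem_inf.2 ⟨inv_mem hhK, by
        show h⁻¹ • b = b
        rw [inv_smul_eq_iff, hhb]⟩) _ hmemT
      rwa [← hmap, inv_smul_smul] at this
    · intro hmemT
      rw [← hmap]
      exact hTinv h ⟨hhK, hhb⟩ _ hmemT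
  -- `y ^ p` lies in the kernel
  have hyp : y ^ p ∈ P ⊓ s.ker a := by
    obtain ⟨-, -, hPcard, hn⟩ := s.full_inf_ker H hab R.le (IsPGroup.of_card R.card)
      fun z hz => R.trans hab hz
    have hidx : ((P ⊓ s.ker a).subgroupOf P).index = p := by
      have h := ((P ⊓ s.ker a).subgroupOf P).card_mul_index
      rw [Nat.card_congr (Subgroup.subgroupOfEquivOfLe (inf_le_left : P ⊓ s.ker a ≤ P)).toEquiv,
        hPcard, mul_comm] at h
      exact Nat.eq_of_mul_eq_mul_right Nat.card_pos h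
    have := Subgroup.pow_index_mem ((P ⊓ s.ker a).subgroupOf P) ⟨y, hy⟩
    rw [hidx, Subgroup.mem_subgroupOf] at this
    simpa using this
  obtain ⟨e₀, he₀⟩ := hρsurj _ hyp
  have hconst : ∀ i j : ZMod p, i ≠ 0 → j ≠ 0 → conv S p (i - e₀) = conv S p (j - e₀) := by
    intro i j hi hj
    obtain ⟨k, hk, hkij⟩ := kst_trans H hA hsep hab (hρblk' hab i)
      (fun e => hi (hρfree hab (by simpa [hρ0] using e)))
      (hρblk' hab j) (fun e => hj (hρfree hab (by simpa [hρ0] using e)))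
    have hl : ∀ l : ℕ, (y ^ l)⁻¹ * k * y ^ l ∈ s.ker a := fun l => by
      have hya : (y ^ l)⁻¹ • a = a :=
        mem_stabilizer_iff.1 (inv_mem (pow_mem (R.le hy) l) : (y ^ l)⁻¹ ∈ stabilizer G a)
      have := s.conj_mem_ker_self hya hk.1
      rwa [inv_inv] at this
    have hinv := conv_invariant S (fun l => τ ⟨_, hl l⟩) (fun l => hτbij _) ?_ ?_ p (i - e₀)
    · have hp' : τ ⟨_, hl p⟩ (i - e₀) = j - e₀ := by
        refine hρfree hab (smul_left_cancel (ρ e₀) ?_)
        show ρ e₀ • ρ _ • b = ρ e₀ • ρ _ • b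
        rw [hτ]
        simp only [← he₀, mul_smul, smul_inv_smul]
        rw [← mul_smul (ρ e₀) (ρ (i - e₀)), ← hρadd, add_sub_cancel, hkij,
          ← mul_smul (ρ e₀) (ρ (j - e₀)), ← hρadd, add_sub_cancel]
      simp only [hp'] at hinv
      exact hinv.symm
    · refine hρfree hab ?_
      show ρ _ • b = ρ _ • b
      rw [hτ]
      simp only [pow_zero, inv_one, one_mul, mul_one, hρ0, one_smul, mem_stabilizer_iff.1 hk.2]
    · intro l i j
      have hk' : y⁻¹ * ((⟨_, hl l⟩ : s.ker a) : G) * y ∈ s.ker a := by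
        have := hl (l + 1)
        rwa [pow_succ, mul_inv_rev, show y⁻¹ * (y ^ l)⁻¹ * k * (y ^ l * y) =
          y⁻¹ * ((y ^ l)⁻¹ * k * y ^ l) * y by simp only [mul_assoc]] at this
      have he : (⟨_, hk'⟩ : s.ker a) = ⟨_, hl (l + 1)⟩ := Subtype.ext (by
        simp only [pow_succ, mul_inv_rev, mul_assoc])
      have := hrel ⟨_, hl l⟩ hk' i j
      rwa [he] at this
  -- the size of `S`
  have hSim : ((fun j => ρ j • c) '' (S : Set (ZMod p))) = T := by
    ext z
    constructor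
    · rintro ⟨j, hj, rfl⟩
      exact (Finset.mem_filter.1 hj).2
    · intro hzT
      obtain ⟨j, rfl⟩ := hρblk hac hzT.2
      exact ⟨j, Finset.mem_coe.2 (Finset.mem_filter.2 ⟨Finset.mem_univ _, hzT⟩), rfl⟩
  have hScard : S.card = T.ncard := by
    rw [← hSim, Set.ncard_image_of_injective _ (hρfree hac), Set.ncard_coe_finset]
  have hcT : c ∈ T := ⟨hcba, s.self_mem hac⟩
  have hfix_eq : ∀ z ∈ s.blk a c, (∀ h ∈ s.kst a b, h • z = z) → False := by
    intro z hz hh
    have hza := s.ne_of_mem hac hz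
    have := hsep a b z hab hza (kst_eq_of_fix H hab hza hh)
    exact hblk (by rw [← s.eq_of_mem hac hz, this])
  rcases card_of_const H.odd S e₀ hconst with h | h
  · rw [hScard, Set.ncard_le_one_iff_eq] at h
    obtain h | ⟨z, hz⟩ := h
    · exact (Set.notMem_empty c) (h ▸ hcT)
    · have hzc : z = c := (Set.mem_singleton_iff.1 (hz ▸ hcT : c ∈ ({z} : Set Ω))).symm
      refine hfix_eq c (s.self_mem hac) fun g hg => ?_
      have := hTinv g hg c hcT
      rw [hz, Set.mem_singleton_iff, hzc] at this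
      exact this
  · rw [hScard] at h
    have hsub : T ⊆ s.blk a c := fun z hz => hz.2
    have hne : T ≠ s.blk a c := fun e => by
      have h1 : s.blk a c ⊆ s.blk b a := e ▸ fun z hz => hz.1
      exact s.not_mem hac (s.blk_eq_of_subset hac hab.symm h1 ▸ s.self_mem hab.symm)
    have hdiff := Set.ncard_diff_add_ncard_of_subset hsub
    rw [s.ncard hac] at hdiff
    have hpos : (s.blk a c \ T).Nonempty :=
      Set.sdiff_nonempty.2 fun h' => hne (hsub.antisymm h')
    obtain ⟨x, hx⟩ := hpos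
    have h1 : (s.blk a c \ T).ncard = 1 := by
      have : 0 < (s.blk a c \ T).ncard := (Set.ncard_pos (Set.toFinite _)).2 ⟨x, hx⟩
      omega
    obtain ⟨z, hz⟩ := Set.ncard_eq_one.1 h1
    refine hfix_eq x hx.1 fun g hg => ?_
    have hgx : g • x ∈ s.blk a c \ T := by
      refine ⟨?_, fun hgT => hx.2 ?_⟩
      · rw [← s.eq_of_mem hac hx.1]
        exact hg.1.2 x (s.ne_of_mem hac hx.1)
      · have := hTinv g⁻¹ (inv_mem hg) _ hgT
        rwa [inv_smul_smul] at this
    rw [hz, Set.mem_singleton_iff] at hgx hx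
    exact hgx.trans hx.symm

end Sys

end CfsgLib.Perm.DegreeSqSucc
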