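import Cfsg.Prelude
import Cfsg.Agent.Lib.Perm.ZassG.Half
import Cfsg.Agent.Lib.Perm.DegreeSqSucc.Block

/-!
The kernel on the blocks is semiregular: then the group is a Zassenhaus group with an abelian
kernel of order `p ^ 2` and a two-point stabiliser of order at most `p - 1`, which is impossible.
-/

open MulAction
open scoped Pointwise

namespace CfsgLib.Perm.DegreeSqSucc

universe u v

variable {G : Type u} {Ω : Type v} [Group G] [MulAction G Ω] [Finite G] {p : ℕ}

/-- A fixed-point-free involution on `n` points is an odd permutation when `n / 2` is odd. -/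
theorem sign_involution {α : Type*} [Fintype α] [DecidableEq α] {σ : Equiv.Perm α} {m : ℕ}
    (hσ : orderOf σ = 2) (hfree : ∀ x, σ x ≠ x) (hn : Fintype.card α = 2 * m) (hm : Odd m) :
    Equiv.Perm.sign σ = -1 := by
  obtain ⟨k, hk⟩ := Equiv.Perm.cycleType_prime_order (hσ ▸ Nat.prime_two)
  have hsupp : σ.support = Finset.univ := Finset.eq_univ_of_forall fun x =>
    Equiv.Perm.mem_support.2 (hfree x)
  have hsum := σ.sum_cycleType
  rw [hk, Multiset.sum_replicate, hσ, hsupp, Finset.card_univ, hn, smul_eq_mul] at hsum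
  have : k + 1 = m := by omega
  rw [Equiv.Perm.sign_of_cycleType, hk, hσ, Multiset.sum_replicate, Multiset.card_replicate,
    smul_eq_mul, this]
  obtain ⟨j, rfl⟩ := hm
  exact Odd.neg_one_pow ⟨3 * j + 1, by ring⟩

namespace Sys

variable {s : Sys G Ω p} (H : Hyp G Ω p) (hB : ∀ a b : Ω, a ≠ b → ∀ k ∈ s.kst a b, k = 1)
  {a b c : Ω}

include H hB

theorem ker_le_reg {P : Subgroup G} (R : Reg s a P) : s.ker a ≤ P := by
  intro k hk
  obtain ⟨b, hab⟩ := H.exists_ne a
  obtain ⟨d, hd, hdb⟩ := R.trans_blk hab (hk.2 b hab)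
  have h := hB a b hab (d⁻¹ * k) (Subgroup.mem_inf.2 ⟨mul_mem (inv_mem hd.2) hk, by
    show (d⁻¹ * k) • b = b
    rw [mul_smul, inv_smul_eq_iff]; exact hdb.symm⟩)
  rw [inv_mul_eq_one] at h
  exact h ▸ hd.1

theorem ker_comm {x y : G} (hx : x ∈ s.ker a) (hy : y ∈ s.ker a) : x * y = y * x := by
  obtain ⟨P, R⟩ := exists_reg H s a
  exact R.comm x (ker_le_reg H hB R hx) y (ker_le_reg H hB R hy)

/-- A generator of the kernel moving `b` to a given other point of its block. -/
theorem exists_gen (hab : a ≠ b) (hc : c ∈ s.blk a b) (hcb : c ≠ b) :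
    ∃ d ∈ s.ker a, d • b = c ∧ s.ker a = Subgroup.zpowers d := by
  obtain ⟨P, R⟩ := exists_reg H s a
  obtain ⟨d, hd, hdb⟩ := R.trans_blk hab hc
  have hK : P ⊓ s.ker a = s.ker a := inf_eq_right.2 (ker_le_reg H hB R)
  refine ⟨d, hd.2, hdb, (Subgroup.eq_of_le_of_card_ge ((Subgroup.zpowers_le).2 hd.2) ?_).symm⟩
  rw [← hK, R.card_inf, Nat.card_zpowers]
  have hdvd : orderOf d ∣ p := R.card_inf ▸ Subgroup.orderOf_dvd_natCard _ hd
  rcases H.prime.eq_one_or_self_of_dvd _ hdvd with h | h
  · rw [orderOf_eq_one_iff] at h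
    rw [h, one_smul] at hdb
    exact absurd hdb.symm hcb
  · exact h.ge

/-- The elements of the two-point stabiliser centralising the kernel. -/
theorem cent_fix (hab : a ≠ b) {m : G} (hm : m ∈ pst G a b)
    (hmc : ∀ k ∈ s.ker a, m * k = k * m) (hc : c ∈ s.blk a b) : m • c = c := by
  obtain ⟨P, R⟩ := exists_reg H s a
  obtain ⟨d, hd, rfl⟩ := R.trans_blk hab hc
  rw [← mul_smul, hmc d hd.2, mul_smul, mem_stabilizer_iff.1 hm.2]

theorem cent_of_fix (hab : a ≠ b) {h : G} (hh : h ∈ pst G a b) (hc : c ∈ s.blk a b) (hcb : c ≠ b)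
    (hfix : h • c = c) : ∀ k ∈ s.ker a, h * k = k * h := by
  obtain ⟨d, hd, hdb, hz⟩ := exists_gen H hB hab hc hcb
  have h1 : h * d * h⁻¹ = d := by
    have hm := s.conj_mem_ker_self hh.1 hd
    have := hB a b hab (d⁻¹ * (h * d * h⁻¹)) (Subgroup.mem_inf.2 ⟨mul_mem (inv_mem hd) hm, by
      show (d⁻¹ * (h * d * h⁻¹)) • b = b
      rw [mul_smul, mul_smul, mul_smul, inv_smul_eq_iff.2 (mem_stabilizer_iff.1 hh.2).symm, hdb, hfix,
        inv_smul_eq_iff, hdb]⟩)
    exact (inv_mul_eq_one.1 this).symm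
  intro k hk
  rw [hz] at hk
  obtain ⟨i, rfl⟩ := Subgroup.mem_zpowers_iff.1 hk
  exact (show Commute h d from mul_inv_eq_iff_eq_mul.1 h1).zpow_right i

theorem cent_both_trivial (hab : a ≠ b) {n : G} (hn : n ∈ pst G a b)
    (ha : ∀ k ∈ s.ker a, n * k = k * n) (hb : ∀ k ∈ s.ker b, n * k = k * n) : n = 1 := by
  have := H.finite
  let N : Subgroup G := pst G a b ⊓ Subgroup.centralizer (s.ker a : Set G) ⊓
    Subgroup.centralizer (s.ker b : Set G)
  have hnN : n ∈ N := ⟨⟨hn, fun k hk => (ha k hk).symm⟩, fun k hk => (hb k hk).symm⟩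
  have hnorm : ∀ g ∈ pst G a b, ∀ x ∈ N, g * x * g⁻¹ ∈ N := by
    intro g hg x hx
    have key : ∀ e, g • e = e → (∀ k ∈ s.ker e, k * x = x * k) →
        g * x * g⁻¹ ∈ Subgroup.centralizer (s.ker e : Set G) := by
      intro e hge hxe k hk
      have hg' : g⁻¹ • e = e := by rw [inv_smul_eq_iff, hge]
      have hc := hxe _ (s.conj_mem_ker_self hg' hk)
      rw [inv_inv] at hc
      calc k * (g * x * g⁻¹) = g * (g⁻¹ * k * g * x) * g⁻¹ := by group
        _ = g * (x * (g⁻¹ * k * g)) * g⁻¹ := by rw [hc]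
        _ = g * x * g⁻¹ * k := by group
    exact Subgroup.mem_inf.2 ⟨Subgroup.mem_inf.2
      ⟨mul_mem (mul_mem hg hx.1.1) (inv_mem hg), key a hg.1 hx.1.2⟩, key b hg.2 hx.2⟩
  obtain ⟨c, hcb, hca⟩ : ∃ c, c ∈ s.line b a ∧ c ∉ s.line a b := by
    by_contra! h
    exact s.line_ne H hab.symm (Set.eq_of_subset_of_ncard_le h
      (by rw [s.ncard_line hab, s.ncard_line hab.symm]))
  simp only [line, Set.mem_insert_iff, not_or] at hca hcb
  obtain ⟨hac, hca⟩ := hca
  have hcb' : c ∈ s.blk b a := hcb.resolve_left fun e => hca (by rw [e]; exact s.self_mem hab)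
  have hfix : ∀ x ∈ N, x • c = c := fun x hx =>
    cent_fix H hB hab.symm ⟨hx.1.1.2, hx.1.1.1⟩ (fun k hk => (hx.2 k hk).symm) hcb'
  have hle : N ≤ s.ker a := s.le_ker_of_fix_blk H hab N (fun x hx => hx.1.1) hnorm (Ne.symm hac)
    (fun e => hca (e ▸ s.self_mem (Ne.symm hac))) fun x hx => by rw [hfix x hx]
  exact hB a b hab n ⟨hle hnN, hn.2⟩

theorem pst_comm (hab : a ≠ b) {g h : G} (hg : g ∈ pst G a b) (hh : h ∈ pst G a b) :
    g * h = h * g := by
  have key : ∀ u v : Ω, u ≠ v → g • u = u → h • u = u → ∀ k ∈ s.ker u,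
      (g * h * g⁻¹ * h⁻¹) * k = k * (g * h * g⁻¹ * h⁻¹) := by
    intro u v huv hgu hhu k hk
    obtain ⟨P, R⟩ := exists_reg H s u
    obtain ⟨w, hw, hwv⟩ : ∃ w, w ∈ s.blk u v ∧ w ≠ v :=
      Set.exists_ne_of_one_lt_ncard (by rw [s.ncard huv]; exact H.prime.one_lt) v
    obtain ⟨d, hd, -, hz⟩ := exists_gen H hB huv hw hwv
    obtain ⟨i, hi⟩ := Subgroup.mem_zpowers_iff.1 (hz ▸ s.conj_mem_ker_self hgu hd)
    obtain ⟨j, hj⟩ := Subgroup.mem_zpowers_iff.1 (hz ▸ s.conj_mem_ker_self hhu hd)
    have e1 : ∀ n : ℤ, g * d ^ n * g⁻¹ = d ^ (i * n) := fun n => by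
      rw [← conj_zpow, ← hi, zpow_mul]
    have e2 : ∀ n : ℤ, h * d ^ n * h⁻¹ = d ^ (j * n) := fun n => by
      rw [← conj_zpow, ← hj, zpow_mul]
    have e3 : g * h * g⁻¹ * h⁻¹ * d * (g * h * g⁻¹ * h⁻¹)⁻¹ = d := by
      have e4 : g * h * d * (g * h)⁻¹ = h * g * d * (h * g)⁻¹ := by
        calc g * h * d * (g * h)⁻¹ = g * (h * d ^ (1 : ℤ) * h⁻¹) * g⁻¹ := by group
          _ = d ^ (i * (j * 1)) := by rw [e2, e1]
          _ = d ^ (j * (i * 1)) := by ring_nf
          _ = h * (g * d ^ (1 : ℤ) * g⁻¹) * h⁻¹ := by rw [e1, e2]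
          _ = h * g * d * (h * g)⁻¹ := by group
      obtain ⟨d', hd', he⟩ : ∃ d', d' = (h * g)⁻¹ * d * (h * g) ∧
          d = h * g * d' * (h * g)⁻¹ := ⟨_, rfl, by group⟩
      have hd'' : d' ∈ Subgroup.zpowers d := by
        rw [← hz, hd']
        have hu : (h * g)⁻¹ • u = u := by rw [inv_smul_eq_iff, mul_smul, hgu, hhu]
        have := s.conj_mem_ker_self hu hd
        rwa [inv_inv] at this
      obtain ⟨n, rfl⟩ := Subgroup.mem_zpowers_iff.1 hd''
      calc g * h * g⁻¹ * h⁻¹ * d * (g * h * g⁻¹ * h⁻¹)⁻¹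
          = g * h * ((h * g)⁻¹ * d * (h * g)) * (g * h)⁻¹ := by group
        _ = g * h * d ^ n * (g * h)⁻¹ := by rw [← hd']
        _ = (g * h * d * (g * h)⁻¹) ^ n := conj_zpow.symm
        _ = (h * g * d * (h * g)⁻¹) ^ n := by rw [e4]
        _ = h * g * d ^ n * (h * g)⁻¹ := conj_zpow
        _ = d := he.symm
    rw [hz] at hk
    obtain ⟨n, rfl⟩ := Subgroup.mem_zpowers_iff.1 hk
    exact (show Commute (g * h * g⁻¹ * h⁻¹) d from mul_inv_eq_iff_eq_mul.1 e3).zpow_right n
  have := cent_both_trivial H hB hab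
    (mul_mem (mul_mem (mul_mem hg hh) (inv_mem hg)) (inv_mem hh))
    (key a b hab hg.1 hh.1) (key b a hab.symm hg.2 hh.2)
  exact commutatorElement_eq_one_iff_mul_comm.1 this

theorem eq_one_of_fix_blk_other (hab : a ≠ b) {h : G} (hh : h ∈ pst G a b) (hac : a ≠ c)
    (hcb : s.blk a c ≠ s.blk a b) (hfix : s.blk a (h • c) = s.blk a c) : h = 1 := by
  have hle : Subgroup.zpowers h ≤ s.ker a := by
    refine s.le_ker_of_fix_blk H hab _ ((Subgroup.zpowers_le).2 hh) ?_ hac hcb ?_
    · intro g hg x hx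
      rw [pst_comm H hB hab hg ((Subgroup.zpowers_le).2 hh hx), mul_inv_cancel_right]
      exact hx
    · intro x hx
      have : x ∈ stabilizer G (s.blk a c) := (Subgroup.zpowers_le).2 (by
        show h • s.blk a c = s.blk a c
        rw [(s.smul_blk_stab hh.1 hac).2, hfix]) hx
      have hxa : x • a = a := ((Subgroup.zpowers_le).2 hh hx).1
      rw [← (s.smul_blk_stab hxa hac).2]
      exact this
  exact hB a b hab h ⟨hle (Subgroup.mem_zpowers h), hh.2⟩

theorem eq_one_of_fix_three (hab : a ≠ b) {h : G} (hh : h ∈ pst G a b) (hca : c ≠ a) (hcb : c ≠ b)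
    (hfix : h • c = c) : h = 1 := by
  have key : ∀ u v : Ω, u ≠ v → h ∈ pst G u v → c ≠ u → c ≠ v →
      h = 1 ∨ ∀ k ∈ s.ker u, h * k = k * h := by
    intro u v huv hhuv hcu hcv
    by_cases hmem : c ∈ s.blk u v
    · exact Or.inr (cent_of_fix H hB huv hhuv hmem hcv hfix)
    · exact Or.inl (eq_one_of_fix_blk_other H hB huv hhuv hcu.symm
        (fun e => hmem ((s.mem_iff huv hcu.symm).2 e)) (by rw [hfix]))
  rcases key a b hab hh hca hcb with h1 | h1
  · exact h1
  rcases key b a hab.symm ⟨hh.2, hh.1⟩ hcb hca with h2 | h2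
  · exact h2
  exact cent_both_trivial H hB hab hh h1 h2

theorem card_pst_le (hab : a ≠ b) : Nat.card ↥(pst G a b) ≤ p - 1 := by
  classical
  have := H.finite
  obtain ⟨c, hac, hcb⟩ := s.exists_other_blk H hab
  let B : s.blocks a := ⟨_, b, hab, rfl⟩
  let f : ↥(pst G a b) → {T : s.blocks a // T ≠ B} := fun h =>
    ⟨⟨_, (h : G) • c, (s.smul_blk_stab h.2.1 hac).1, rfl⟩, fun e => hcb (by
      have e' : s.blk a ((h : G) • c) = s.blk a b := congrArg Subtype.val e
      rw [← (s.smul_blk_stab h.2.1 hac).2] at e'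
      refine (smul_left_cancel (h : G) ?_)
      rw [e', (s.smul_blk_stab h.2.1 hab).2, mem_stabilizer_iff.1 h.2.2])⟩
  have hf : Function.Injective f := by
    intro g h e
    have e' : s.blk a ((g : G) • c) = s.blk a ((h : G) • c) :=
      congrArg (fun T => (T.1 : Set Ω)) e
    rw [← (s.smul_blk_stab g.2.1 hac).2, ← (s.smul_blk_stab h.2.1 hac).2, ← eq_inv_smul_iff,
      smul_smul] at e'
    have hm : (g : G)⁻¹ * h ∈ pst G a b := mul_mem (inv_mem g.2) h.2
    have := eq_one_of_fix_blk_other H hB hab hm hac hcb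
      (by rw [← (s.smul_blk_stab hm.1 hac).2, ← e'])
    exact Subtype.ext (inv_mul_eq_one.1 this)
  have := Nat.card_le_card_of_injective f hf
  let _ : Fintype (s.blocks a) := Fintype.ofFinite _
  rw [Nat.card_eq_fintype_card (α := {T : s.blocks a // T ≠ B}), Fintype.card_subtype_compl,
    Fintype.card_subtype_eq, ← Nat.card_eq_fintype_card (α := s.blocks a), s.card_blocks H a] at this
  exact this

theorem caseB_false [Finite Ω] (hab : a ≠ b) : False := by
  classical
  have := Fact.mk H.prime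
  have hp3 := H.three_le
  obtain ⟨P, R⟩ := exists_reg H s a
  have he := card_pst_le H hB hab
  have hst := card_stab H hab
  -- `P` is normal in the stabiliser
  have hPn : (P.subgroupOf (stabilizer G a)).Normal := by
    set S := P.subgroupOf (stabilizer G a) with hS
    have hScard : Nat.card S = p ^ 2 := by
      rw [hS, Nat.card_congr (Subgroup.subgroupOfEquivOfLe R.le).toEquiv, R.card]
    have hidx : S.index = Nat.card ↥(pst G a b) := by
      have h := S.card_mul_index
      rw [hScard, hst] at h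
      exact Nat.eq_of_mul_eq_mul_left (pow_pos H.prime.pos 2) h
    have hpos : 0 < Nat.card ↥(pst G a b) := Nat.card_pos
    let T : Sylow p ↥(stabilizer G a) := (IsPGroup.of_card hScard).toSylow (by
      rw [hidx]; exact Nat.not_dvd_of_pos_of_lt hpos (by omega))
    have hn : Nat.card (Sylow p ↥(stabilizer G a)) = 1 := by
      have h1 := (Sylow.card_dvd_index T).trans (dvd_of_eq (show T.1.index = _ from hidx))
      have h2 := card_sylow_modEq_one p ↥(stabilizer G a)
      have h3 := Nat.le_of_dvd hpos h1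
      rw [Nat.ModEq, Nat.mod_eq_of_lt (by omega), Nat.mod_eq_of_lt H.prime.one_lt] at h2
      exact h2
    have := (Nat.card_eq_one_iff_unique.1 hn).1
    exact Sylow.normal_of_subsingleton T
  -- some nontrivial element fixes two points
  have hne : Nat.card ↥(pst G a b) ≠ 1 := by
    intro h1
    let _ : Fintype Ω := Fintype.ofFinite Ω
    have hfree : ∀ {g : G} {x y : Ω}, x ≠ y → g • x = x → g • y = y → g = 1 := by
      intro g x y hxy hx hy
      obtain ⟨t, htx, hty⟩ := H.two x y a b hxy hab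
      have hm : t * g * t⁻¹ ∈ pst G a b := Subgroup.mem_inf.2 ⟨by
          rw [mem_stabilizer_iff, ← htx, mul_smul, mul_smul, inv_smul_smul, hx], by
          rw [mem_stabilizer_iff, ← hty, mul_smul, mul_smul, inv_smul_smul, hy]⟩
      rw [Subgroup.eq_bot_of_card_eq _ h1, Subgroup.mem_bot] at hm
      exact conj_eq_one_iff.1 hm
    let sg : G →* ℤˣ := Equiv.Perm.sign.comp (MulAction.toPermHom G Ω)
    have hodd : ∀ {g : G} {x : Ω}, g • x = x → sg g = 1 := by
      intro g x hx
      obtain ⟨y, hy⟩ := H.exists_ne x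
      obtain ⟨t, htx, hty⟩ := H.two x y a b hy hab
      have hord : orderOf g ∣ p ^ 2 := by
        have hm : t * g * t⁻¹ ∈ stabilizer G a := by
          rw [mem_stabilizer_iff, ← htx, mul_smul, mul_smul, inv_smul_smul, hx]
        have := Subgroup.orderOf_dvd_natCard _ hm
        rwa [hst, h1, mul_one, (SemiconjBy.conj_mk t g).orderOf_eq.symm] at this
      have h2 : sg g ^ (p ^ 2) = 1 := by
        obtain ⟨k, hk⟩ := hord
        rw [← map_pow, hk, pow_mul, pow_orderOf_eq_one, one_pow, map_one]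
      have hpo : Odd (p ^ 2) := (H.prime.odd_of_ne_two H.odd).pow
      rcases Int.units_eq_one_or (sg g) with h | h
      · exact h
      · rw [h, hpo.neg_one_pow] at h2
        exact absurd h2 (by decide)
    obtain ⟨u, hua, hub⟩ := H.two a b b a hab hab.symm
    have hu2 : u * u = 1 := hfree hab (by rw [mul_smul, hua, hub]) (by rw [mul_smul, hub, hua])
    have hu1 : u ≠ 1 := fun e => hab (by rw [← hua, e, one_smul])
    have huord : orderOf (MulAction.toPermHom G Ω u) = 2 := by
      refine orderOf_eq_prime (by rw [← map_pow, pow_two, hu2, map_one]) fun e => hu1 ?_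
      exact H.faithful u fun x => Equiv.Perm.congr_fun e x
    obtain ⟨c, hac, hcb⟩ : ∃ c, a ≠ c ∧ b ≠ c := by
      obtain ⟨c, hac, hcb⟩ := s.exists_other_blk H hab
      exact ⟨c, hac, fun e => hcb (e ▸ rfl)⟩
    obtain ⟨g₁, hg1c, hg1a⟩ := H.two c a c b hac.symm hcb.symm
    have hd : g₁ • b ≠ b := fun e => hab (smul_left_cancel g₁ (hg1a.trans e.symm))
    obtain ⟨g₂, hg2b, hg2d⟩ := H.two b (g₁ • b) b a hd.symm hab.symm
    have hu : u = g₂ * g₁ := by
      have := hfree hab (g := u⁻¹ * (g₂ * g₁))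
        (by rw [mul_smul, mul_smul, hg1a, hg2b, inv_smul_eq_iff, hua])
        (by rw [mul_smul, mul_smul, hg2d, inv_smul_eq_iff, hub])
      exact inv_mul_eq_one.1 this
    have hsu : sg u = 1 := by rw [hu, map_mul, hodd hg2b, hodd hg1c, one_mul]
    obtain ⟨j, hj⟩ := H.prime.odd_of_ne_two H.odd
    have hcard : Fintype.card Ω = 2 * (2 * j * j + 2 * j + 1) := by
      rw [← Nat.card_eq_fintype_card, H.card, hj]; ring
    have hfp : ∀ x, MulAction.toPermHom G Ω u x ≠ x := by
      intro x hx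
      have hx' : u • x = x := hx
      -- `u` fixes no other point, and the remaining points fall into pairs
      have hall : ∀ y, u • y = y → y = x := fun y hy => by
        by_contra hyx
        exact hu1 (hfree hyx hy hx')
      have hsupp : (MulAction.toPermHom G Ω u).support = Finset.univ.erase x := by
        ext y
        simp only [Equiv.Perm.mem_support, Finset.mem_erase, Finset.mem_univ, and_true]
        exact ⟨fun h e => h (e ▸ hx), fun h e => h (hall y e)⟩
      obtain ⟨k, hk⟩ := Equiv.Perm.cycleType_prime_order (huord ▸ Nat.prime_two)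
      have hsum := (MulAction.toPermHom G Ω u).sum_cycleType
      rw [hk, Multiset.sum_replicate, huord, hsupp, Finset.card_erase_of_mem (Finset.mem_univ x),
        Finset.card_univ, hcard, smul_eq_mul] at hsum
      omega
    have := sign_involution huord hfp hcard ⟨j * j + j, by ring⟩
    exact absurd (hsu.symm.trans this) (by decide)
  have hex : ∃ g : G, g ≠ 1 ∧ g ∈ pst G a b := by
    by_contra! h
    exact hne (Subgroup.card_eq_one.2 ((Subgroup.eq_bot_iff_forall _).2 fun g hg =>
      by_contra fun e => h g e hg))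
  have hZ : Cfsg.IsZassenhausGroup G Ω := by
    refine ⟨⟨fun {g h} e => ?_⟩, is_two_pretransitive_iff.2 fun {x y z w} hxy hzw =>
      H.two x y z w hxy hzw, ?_, ?_, ?_⟩
    · exact inv_mul_eq_one.1 (H.faithful (g⁻¹ * h) fun x => by
        rw [mul_smul, inv_smul_eq_iff]; exact (e x).symm) 
    · intro g x y z hxy hyz hxz hx hy hz
      obtain ⟨t, htx, hty⟩ := H.two x y a b hxy hab
      have hm : t * g * t⁻¹ ∈ pst G a b := Subgroup.mem_inf.2 ⟨by
          rw [mem_stabilizer_iff, ← htx, mul_smul, mul_smul, inv_smul_smul, hx], by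
          rw [mem_stabilizer_iff, ← hty, mul_smul, mul_smul, inv_smul_smul, hy]⟩
      have := eq_one_of_fix_three H hB hab hm (c := t • z)
        (fun e => hxz (smul_left_cancel t (htx.trans e.symm)))
        (fun e => hyz (smul_left_cancel t (hty.trans e.symm)))
        (by rw [mul_smul, mul_smul, inv_smul_smul, hz])
      exact conj_eq_one_iff.1 this
    · obtain ⟨g, hg1, hg⟩ := hex
      exact ⟨g, hg1, a, b, hab, hg.1, hg.2⟩
    · intro N hN htr
      by_contra! hreg
      have hcardN : Nat.card N = p ^ 2 + 1 := by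
        rw [← (stabilizer N a).card_mul_index, hreg a, Subgroup.card_bot, one_mul, ← hreg a,
          index_stabilizer_of_transitive, H.card]
      obtain ⟨j, hj⟩ := H.prime.odd_of_ne_two H.odd
      have hn : p ^ 2 + 1 = 2 * (2 * j * j + 2 * j + 1) := by rw [hj]; ring
      have : Fact (Nat.Prime 2) := ⟨Nat.prime_two⟩
      obtain ⟨u, hu⟩ := exists_prime_orderOf_dvd_card' (G := N) 2
        (by rw [hcardN, hn]; exact dvd_mul_right _ _)
      have hfree : ∀ {x : N} {y : Ω}, (x : G) • y = y → x = 1 := fun {x y} h => by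
        have : x ∈ stabilizer N y := h
        rwa [hreg y, Subgroup.mem_bot] at this
      have hua : (u : G) • a ≠ a := fun e => by
        rw [hfree e, orderOf_one] at hu; omega
      have hsq : ∀ x : N, x * x = 1 := by
        intro x
        by_cases hx : x = 1
        · simp [hx]
        obtain ⟨g, hga, hgu⟩ := H.exists_stab_move (Ne.symm hua) (fun e => hx (hfree e.symm))
        let y : N := ⟨g * u * g⁻¹, hN.conj_mem _ u.2 g⟩
        have hy : y = x := by
          refine inv_mul_eq_one.1 (hfree (y := a) ?_)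
          rw [Subgroup.coe_mul, Subgroup.coe_inv, mul_smul, inv_smul_eq_iff]
          show (x : G) • a = (g * u * g⁻¹) • a
          rw [mul_smul, mul_smul, inv_smul_eq_iff.2 hga.symm, hgu]
        rw [← hy]
        refine Subtype.ext ?_
        show g * u * g⁻¹ * (g * u * g⁻¹) = 1
        have : (u : G) * u = 1 := by
          rw [← pow_two, ← Subgroup.coe_pow, ← hu, pow_orderOf_eq_one]; rfl
        rw [show g * u * g⁻¹ * (g * u * g⁻¹) = g * ((u : G) * u) * g⁻¹ by group, this]
        group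
      obtain ⟨k, hk⟩ := (show IsPGroup 2 N from fun x => ⟨1, by rw [pow_one, pow_two]; exact hsq x⟩).exists_card_eq
      rw [hcardN, hn] at hk
      rcases k with _ | _ | k
      · omega
      · have := Nat.mul_le_mul hp3 hp3
        rw [← pow_two] at this
        rw [← hn] at hk; omega
      · rw [pow_succ, pow_succ, mul_assoc, mul_comm (2 ^ k)] at hk; omega
  have hF : CfsgLib.Perm.ZassG.IsKernel a P := by
    refine CfsgLib.Perm.ZassG.isKernel_of_subgroupOf R.le hPn fun y z hy hz => ?_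
    obtain ⟨x, hx, hxy⟩ := R.trans (Ne.symm hy) (Ne.symm hz)
    refine ⟨⟨x, hx⟩, hxy, fun x' hx' => Subtype.ext (inv_mul_eq_one.1 ?_)⟩
    exact R.free (mul_mem (inv_mem x'.2) hx) (Ne.symm hy)
      (by rw [mul_smul, hxy, inv_smul_eq_iff]; exact hx'.symm)
  have h := CfsgLib.Perm.ZassG.card_cases hZ hab hF fun x y => Subtype.ext (R.comm x x.2 y y.2)
  rw [R.card] at h
  have : p * p ≤ 2 * (p - 1) + 1 := by
    rw [← pow_two]
    rcases h with h | h <;> rw [h] <;> unfold CfsgLib.Perm.ZassG.pairStab <;> unfold pst at he <;>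
      omega
  have := Nat.mul_le_mul_right p hp3
  omega

end Sys

end CfsgLib.Perm.DegreeSqSucc
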