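import Cfsg.Agent.Lib.Perm.DegreeSqSucc.Block

/-!
Points with the same stabiliser in the kernel on the blocks: either there are none in different
blocks, or they form a second, transversal, block system, which is impossible.
-/

open MulAction
open scoped Pointwise

namespace CfsgLib.Perm.DegreeSqSucc

variable {G Ω : Type*} [Group G] [MulAction G Ω] [Finite G] {p : ℕ}

namespace Sys

variable {s : Sys G Ω p} (H : Hyp G Ω p) {a b c : Ω}

omit [Finite G] in
theorem kst_smul_eq (g : G) {x y : Ω} (h : s.kst a x = s.kst a y) :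
    s.kst (g • a) (g • x) = s.kst (g • a) (g • y) := by
  have key : ∀ x y : Ω, s.kst a x = s.kst a y →
      s.kst (g • a) (g • x) ≤ s.kst (g • a) (g • y) := by
    intro x y h k hk
    have := s.conj_mem_kst g⁻¹ hk
    rw [inv_smul_smul, inv_smul_smul, inv_inv, h] at this
    have := s.conj_mem_kst g this
    rwa [show g * (g⁻¹ * k * g) * g⁻¹ = k by group] at this
  exact le_antisymm (key x y h) (key y x h.symm)

include H

theorem card_ker (hab : a ≠ b) :
    Nat.card ↥(s.ker a) = p * Nat.card ↥(s.kst a b) := by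
  have := H.finite
  obtain ⟨P, R⟩ := exists_reg H s a
  rw [card_eq_orbit_mul (s.ker a) b]
  congr 1
  refine Eq.trans ?_ (s.ncard hab)
  congr 1
  refine subset_antisymm ?_ fun c hc => ?_
  · rintro _ ⟨k, rfl⟩
    exact k.2.2 b hab
  · obtain ⟨d, hd, rfl⟩ := R.trans_blk hab hc
    exact ⟨⟨d, hd.2⟩, rfl⟩

theorem kst_eq_of_fix (hab : a ≠ b) (hac : a ≠ c) (h : ∀ k ∈ s.kst a b, k • c = c) :
    s.kst a b = s.kst a c := by
  refine Subgroup.eq_of_le_of_card_ge (fun k hk => ⟨hk.1, h k hk⟩) (le_of_eq ?_)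
  exact Nat.eq_of_mul_eq_mul_left H.prime.pos ((card_ker H hac).symm.trans (card_ker H hab))

variable (hA : ∀ a b : Ω, a ≠ b → ∃ k ∈ s.kst a b, k ≠ 1)
include hA

theorem eq_of_kst_eq_of_mem (hab : a ≠ b) (hc : c ∈ s.blk a b) (h : s.kst a b = s.kst a c) :
    c = b := by
  by_contra hcb
  have := Fact.mk H.prime
  obtain ⟨P, R⟩ := exists_reg H s a
  obtain ⟨d, hd, rfl⟩ := R.trans_blk hab hc
  obtain ⟨k, hk, hk1⟩ := hA a b hab
  refine hk1 (eq_one_of_fix_blk H hk.1 hab fun e he => ?_)
  obtain ⟨d', hd', rfl⟩ := R.trans_blk hab he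
  have hz : Subgroup.zpowers d = P ⊓ s.ker a := by
    refine Subgroup.eq_of_le_of_card_ge ((Subgroup.zpowers_le).2 hd) ?_
    rw [R.card_inf, Nat.card_zpowers]
    have hdvd : orderOf d ∣ p := R.card_inf ▸ Subgroup.orderOf_dvd_natCard _ hd
    rcases H.prime.eq_one_or_self_of_dvd _ hdvd with e | e
    · rw [orderOf_eq_one_iff] at e
      rw [e, one_smul] at hcb
      exact absurd rfl hcb
    · exact e.ge
  rw [← hz] at hd'
  obtain ⟨i, rfl⟩ := (mem_powers_iff_mem_zpowers).2 hd'
  have hfix : ∀ i : ℕ, s.kst a ((d ^ i) • b) = s.kst a b := by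
    intro i
    induction i with
    | zero => rw [pow_zero, one_smul]
    | succ i ih =>
      have := kst_smul_eq d ih
      rw [mem_stabilizer_iff.1 (R.le hd.1), ← mul_smul, ← pow_succ'] at this
      rw [this, h]
  exact ((hfix i).symm ▸ hk : k ∈ s.kst a ((d ^ i) • b)).2

omit hA

/-- The points with the same stabiliser in the kernel. -/
def cls (s : Sys G Ω p) (a b : Ω) : Set Ω := {c | a ≠ c ∧ s.kst a c = s.kst a b}

omit H [Finite G] in
theorem smul_cls (g : G) : g • s.cls a b = s.cls (g • a) (g • b) := by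
  ext c
  rw [Set.mem_smul_set_iff_inv_smul_mem]
  constructor
  · rintro ⟨h1, h2⟩
    refine ⟨fun e => h1 (by rw [← e, inv_smul_smul]), ?_⟩
    have := kst_smul_eq g h2
    rwa [smul_inv_smul] at this
  · rintro ⟨h1, h2⟩
    refine ⟨fun e => h1 (by rw [e, smul_inv_smul]), ?_⟩
    have := kst_smul_eq g⁻¹ h2
    rwa [inv_smul_smul, inv_smul_smul] at this

include hA

/-- Either no two points have the same stabiliser in the kernel, or every class has `p` points. -/
theorem cls_cases :
    (∀ a b c : Ω, a ≠ b → a ≠ c → s.kst a b = s.kst a c → c = b) ∨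
      ∀ a b : Ω, a ≠ b → (s.cls a b).ncard = p := by
  classical
  have := H.finite
  have hne : Nonempty Ω := (Nat.card_pos_iff.1 (by rw [H.card]; omega)).1
  obtain ⟨a₀⟩ := hne
  obtain ⟨b₀, h0⟩ := H.exists_ne a₀
  have hconst : ∀ a b : Ω, a ≠ b → (s.cls a b).ncard = (s.cls a₀ b₀).ncard := by
    intro a b hab
    obtain ⟨g, rfl, rfl⟩ := H.two a₀ b₀ a b h0 hab
    rw [← smul_cls, Set.ncard_smul_set]
  have hle : (s.cls a₀ b₀).ncard ≤ p := by
    have h := Set.ncard_le_ncard_of_injOn (s.blk a₀) (s := s.cls a₀ b₀)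
      (t := (s.blocks a₀ : Set (Set Ω))) (fun c hc => ⟨c, hc.1, rfl⟩) fun x hx y hy e =>
        eq_of_kst_eq_of_mem H hA hy.1 ((s.mem_iff hy.1 hx.1).2 e) (hy.2.trans hx.2.symm)
    exact h.trans ((Nat.card_coe_set_eq _).symm.trans (s.card_blocks H a₀)).le
  have hdvd : (s.cls a₀ b₀).ncard ∣ p ^ 2 := by
    let _ : Fintype Ω := Fintype.ofFinite Ω
    have h := card_of_fibres (Finset.univ.filter (a₀ ≠ ·)) (s.cls a₀) (s.cls a₀ b₀).ncard fun c hc => by
      rw [Finset.mem_filter] at hc
      rw [← Set.ncard_coe_finset]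
      refine Eq.trans ?_ (hconst a₀ c hc.2)
      congr 1
      ext e
      simp only [Finset.coe_filter, Finset.mem_filter, Finset.mem_univ, true_and, Set.mem_ofPred_eq]
      constructor
      · rintro ⟨he, heq⟩
        rw [← heq]; exact ⟨he, rfl⟩
      · rintro ⟨he, heq⟩
        refine ⟨he, ?_⟩
        simp only [cls, heq]
    have h1 : (Finset.univ.filter (a₀ ≠ ·)).card = p ^ 2 := by
      rw [← H.ncard_compl a₀, ← Set.ncard_coe_finset]
      congr 1
      ext e
      simp [eq_comm]
    exact Dvd.intro_left _ (h.symm.trans h1)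
  obtain ⟨i, hi, he⟩ := (Nat.dvd_prime_pow H.prime).1 hdvd
  rcases i with _ | _ | i
  · left
    intro a b c hab hac h
    have h1 := hconst a b hab
    rw [he, pow_zero, Set.ncard_eq_one] at h1
    obtain ⟨x, hx⟩ := h1
    have hbx : b = x := Set.mem_singleton_iff.1 (hx ▸ (⟨hab, rfl⟩ : b ∈ s.cls a b))
    have hcx : c = x := Set.mem_singleton_iff.1 (hx ▸ (⟨hac, h.symm⟩ : c ∈ s.cls a b))
    exact hcx.trans hbx.symm
  · right
    intro a b hab
    rw [hconst a b hab, he, pow_one]
  · exfalso
    have := H.two_le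
    rw [he, show i + 1 + 1 = i + 2 from rfl, pow_add] at hle
    have := Nat.one_le_pow i p H.prime.pos
    nlinarith

/-- Classes with `p` points form a second block system, and this is impossible. -/
theorem caseA1_false (hp : ∀ a b : Ω, a ≠ b → (s.cls a b).ncard = p) (hab : a ≠ b) : False := by
  classical
  have := H.finite
  let _ : Fintype Ω := Fintype.ofFinite Ω
  let R : Sys G Ω p :=
    { blk := s.cls
      self_mem := fun h => ⟨h, rfl⟩
      not_mem := fun _ h => h.1 rfl
      eq_of_mem := fun {a b c} _ hc => by simp only [cls, hc.2]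
      smul_blk := fun g {a b} _ => smul_cls g
      ncard := fun {a b} h => hp a b h }
  have hmeet : ∀ {x u v : Ω}, x ≠ u → x ≠ v → ∃ w, w ∈ s.blk x u ∧ w ∈ R.blk x v := by
    intro x u v hu hv
    have himg : s.blk x '' R.blk x v = (s.blocks x : Set (Set Ω)) := by
      refine Set.eq_of_subset_of_ncard_le ?_ ?_
      · rintro _ ⟨w, hw, rfl⟩
        exact ⟨w, hw.1, rfl⟩
      · rw [Set.ncard_image_of_injOn fun y hy z hz e =>
          eq_of_kst_eq_of_mem H hA hz.1 ((s.mem_iff hz.1 hy.1).2 e) (hz.2.trans hy.2.symm),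
          R.ncard hv]
        exact ((Nat.card_coe_set_eq _).symm.trans (s.card_blocks H x)).le
    obtain ⟨w, hw, hwe⟩ : s.blk x u ∈ s.blk x '' R.blk x v := himg.symm ▸ ⟨u, hu, rfl⟩
    exact ⟨w, (s.mem_iff hu hw.1).2 hwe, hw⟩
  have huniq : ∀ {x y z : Ω}, x ≠ y → x ≠ z → s.blk x y = s.blk x z → R.blk x y = R.blk x z → y = z :=
    fun {x y z} hy hz h1 h2 => eq_of_kst_eq_of_mem H hA hz ((s.mem_iff hz hy).2 h1)
      ((show y ∈ R.blk x z from h2 ▸ R.self_mem hy).2).symm
  have hE : ∀ x y : Ω, x ≠ y → s.line x y = R.line y x := by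
    intro x y hxy
    have hfix : ∀ w, (∀ k ∈ s.kst y x, k • w = w) ↔ w ∈ R.line y x := by
      intro w
      constructor
      · intro h
        by_cases hwy : w = y
        · exact hwy ▸ Set.mem_insert _ _
        · exact Set.mem_insert_of_mem _
            ⟨Ne.symm hwy, (kst_eq_of_fix H hxy.symm (Ne.symm hwy) h).symm⟩
      · intro h k hk
        rcases Set.mem_insert_iff.1 h with rfl | h
        · exact hk.1.1
        · exact (h.2.symm ▸ hk : k ∈ s.kst y w).2
    set F := (R.line y x).toFinset.erase x with hF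
    have hFmem : ∀ {w}, w ∈ F ↔ w ≠ x ∧ ∀ k ∈ s.kst y x, k • w = w := by
      intro w
      rw [hF, Finset.mem_erase, Set.mem_toFinset, hfix]
    have hxline : x ∈ R.line y x := Set.mem_insert_of_mem _ (R.self_mem hxy.symm)
    have hFcard : F.card = p := by
      rw [hF, Finset.card_erase_of_mem (Set.mem_toFinset.2 hxline),
        ← Set.ncard_eq_toFinset_card', R.ncard_line hxy.symm]
      omega
    have hyF : y ∈ F := hFmem.2 ⟨hxy.symm, fun k hk => hk.1.1⟩
    have himg : F.image (fun w => (s.blk x w, R.blk x w)) =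
        F.image (s.blk x) ×ˢ F.image (R.blk x) := by
      refine subset_antisymm (fun q hq => ?_) fun q hq => ?_
      · obtain ⟨w, hw, rfl⟩ := Finset.mem_image.1 hq
        exact Finset.mk_mem_product (Finset.mem_image_of_mem _ hw) (Finset.mem_image_of_mem _ hw)
      · obtain ⟨h1, h2⟩ := Finset.mem_product.1 hq
        obtain ⟨u, hu, hu'⟩ := Finset.mem_image.1 h1
        obtain ⟨v, hv, hv'⟩ := Finset.mem_image.1 h2
        obtain ⟨hux, hu⟩ := hFmem.1 hu
        obtain ⟨hvx, hv⟩ := hFmem.1 hv
        obtain ⟨w, hws, hwR⟩ := hmeet (Ne.symm hux) (Ne.symm hvx)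
        have hxw := s.ne_of_mem (Ne.symm hux) hws
        refine Finset.mem_image.2 ⟨w, hFmem.2 ⟨hxw.symm, fun k hk => ?_⟩, ?_⟩
        · have hkx : k • x = x := hk.2
          have h1 : k • w ∈ s.blk x u := by
            have := s.smul_mem k (Ne.symm hux) hws
            rwa [hkx, hu k hk] at this
          have h2 : k • w ∈ R.blk x v := by
            have := R.smul_mem k (Ne.symm hvx) hwR
            rwa [hkx, hv k hk] at this
          exact huniq (s.ne_of_mem (Ne.symm hux) h1) hxw
            ((s.eq_of_mem (Ne.symm hux) h1).trans (s.eq_of_mem (Ne.symm hux) hws).symm)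
            ((R.eq_of_mem (Ne.symm hvx) h2).trans (R.eq_of_mem (Ne.symm hvx) hwR).symm)
        · rw [s.eq_of_mem (Ne.symm hux) hws, R.eq_of_mem (Ne.symm hvx) hwR, hu', hv']
    have hprod : (F.image (s.blk x)).card * (F.image (R.blk x)).card = p := by
      rw [← Finset.card_product, ← himg, Finset.card_image_of_injOn, hFcard]
      intro u hu v hv e
      exact huniq (Ne.symm (hFmem.1 hu).1) (Ne.symm (hFmem.1 hv).1) (congrArg Prod.fst e)
        (congrArg Prod.snd e)
    have hone : ∀ T : Sys G Ω p, (F.image (T.blk x)).card = 1 → T.line x y = R.line y x := by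
      intro T h1
      obtain ⟨B, hB⟩ := Finset.card_eq_one.1 h1
      have hsub : F ⊆ (T.blk x y).toFinset := fun w hw => by
        have e1 : T.blk x w = B := Finset.mem_singleton.1 (hB ▸ Finset.mem_image_of_mem _ hw)
        have e2 : T.blk x y = B := Finset.mem_singleton.1 (hB ▸ Finset.mem_image_of_mem _ hyF)
        rw [Set.mem_toFinset]
        exact (T.mem_iff hxy (Ne.symm (hFmem.1 hw).1)).2 (e1.trans e2.symm)
      have heq := Finset.eq_of_subset_of_card_le hsub
        (by rw [← Set.ncard_eq_toFinset_card', T.ncard hxy, hFcard])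
      have h2 : (R.line y x).toFinset = insert x F := by
        rw [hF, Finset.insert_erase (Set.mem_toFinset.2 hxline)]
      rw [← Set.coe_toFinset (R.line y x), h2, heq, Finset.coe_insert, Set.coe_toFinset]
      rfl
    rcases Nat.Prime.eq_one_or_self_of_dvd H.prime _ (Dvd.intro _ hprod) with h | h
    · exact hone s h
    · rw [h] at hprod
      have h1 : (F.image (R.blk x)).card = 1 :=
        Nat.eq_of_mul_eq_mul_left H.prime.pos (hprod.trans (mul_one p).symm)
      exact absurd (hone R h1) (R.line_ne H hxy)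
  obtain ⟨c, hc, hcb⟩ := Set.exists_ne_of_one_lt_ncard (s := s.blk a b)
    (by rw [s.ncard hab]; exact H.prime.one_lt) b
  have hac := s.ne_of_mem hab hc
  have h1 : s.line a b = R.line c a := by
    rw [← hE a c hac]
    show insert a _ = insert a _
    rw [s.eq_of_mem hab hc]
  have hcR : c ∈ R.blk b a := by
    have : c ∈ R.line b a := hE a b hab ▸ Set.mem_insert_of_mem _ hc
    exact (Set.mem_insert_iff.1 this).resolve_left hcb
  have h2 : s.line a b = s.line c b := by
    rw [hE a b hab, hE c b hcb]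
    show insert b _ = insert b _
    rw [R.eq_of_mem hab.symm hcR]
  have h3 : R.blk c a = s.blk c b := by
    have h := h1.symm.trans h2
    rw [line, line] at h
    have e1 := congrArg (fun T => T \ {c}) h
    simpa [R.not_mem hac.symm, s.not_mem hcb] using e1
  have hbR : b ∈ R.blk c a := h3 ▸ s.self_mem hcb
  have haS : a ∈ s.blk c b := h3 ▸ R.self_mem hac.symm
  exact hab (eq_of_kst_eq_of_mem H hA hcb haS hbR.2)

end Sys

end CfsgLib.Perm.DegreeSqSucc
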