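import Cfsg.Agent.Lib.Perm.DegreeSqSucc.CaseA2
import Cfsg.Agent.Lib.Perm.DegreeSqSucc.CaseB

/-!
A two-transitive group of degree `p ^ 2 + 1` is doubly primitive, unless it is the Frobenius group
of order `20`.
-/

open MulAction
open scoped Pointwise

namespace CfsgLib.Perm.DegreeSqSucc

variable {G Ω : Type*} [Group G] [MulAction G Ω] {p : ℕ}

/-- An imprimitivity block of size `p` gives a system for all point stabilisers. -/
theorem exists_sys (htwo : ∀ a b c d : Ω, a ≠ b → c ≠ d → ∃ g : G, g • a = c ∧ g • b = d) {a b₀ : Ω}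
    (B : Set Ω) (hab : a ≠ b₀) (hb₀ : b₀ ∈ B) (hBa : a ∉ B) (hcard : B.ncard = p)
    (hblock : ∀ g : G, g • a = a → g • B = B ∨ Disjoint (g • B) B) : Nonempty (Sys G Ω p) := by
  have huniq : ∀ g h : G, g • a = h • a → ∀ w, w ∈ g • B → w ∈ h • B → g • B = h • B := by
    intro g h e w hg hh
    have hfix : (h⁻¹ * g) • a = a := by rw [mul_smul, e, inv_smul_smul]
    rcases hblock _ hfix with h1 | h1
    · calc g • B = h • ((h⁻¹ * g) • B) := by rw [← mul_smul, mul_inv_cancel_left]
        _ = h • B := by rw [h1]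
    · exfalso
      have hw : h⁻¹ • w ∈ (h⁻¹ * g) • B := by
        rw [mul_smul]; exact Set.smul_mem_smul_set hg
      exact Set.disjoint_left.1 h1 hw (Set.mem_smul_set_iff_inv_smul_mem.1 hh)
  let blk : Ω → Ω → Set Ω := fun x z => {w | ∃ g : G, g • a = x ∧ z ∈ g • B ∧ w ∈ g • B}
  have hblk : ∀ {x z : Ω} (g : G), g • a = x → z ∈ g • B → blk x z = g • B := by
    intro x z g hg hz
    refine subset_antisymm ?_ fun w hw => ⟨g, hg, hz, hw⟩
    rintro w ⟨h, hh, hzh, hwh⟩
    rwa [huniq g h (hg.trans hh.symm) z hz hzh]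
  have hex : ∀ {x z : Ω}, x ≠ z → ∃ g : G, g • a = x ∧ z ∈ g • B := by
    intro x z hxz
    obtain ⟨g, hg, hgb⟩ := htwo a b₀ x z hab hxz
    exact ⟨g, hg, hgb ▸ Set.smul_mem_smul_set hb₀⟩
  exact ⟨{
    blk := blk
    self_mem := fun {x z} h => by
      obtain ⟨g, hg, hz⟩ := hex h
      exact ⟨g, hg, hz, hz⟩
    not_mem := fun {x z} _ => by
      rintro ⟨g, rfl, -, hw⟩
      exact hBa (Set.smul_mem_smul_set_iff.1 hw)
    eq_of_mem := fun {x z c} h hc => by
      obtain ⟨g, hg, hz, hcg⟩ := hc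
      rw [hblk g hg hcg, hblk g hg hz]
    smul_blk := fun k {x z} h => by
      obtain ⟨g, hg, hz⟩ := hex h
      rw [hblk g hg hz, hblk (k * g) (by rw [mul_smul, hg])
        (by rw [mul_smul]; exact Set.smul_mem_smul_set hz), mul_smul]
    ncard := fun {x z} h => by
      obtain ⟨g, hg, hz⟩ := hex h
      rw [hblk g hg hz, Set.ncard_smul_set, hcard] }⟩

variable [Finite G]

theorem odd_false (H : Hyp G Ω p) (s : Sys G Ω p) : False := by
  have := H.finite
  obtain ⟨a⟩ := (Nat.card_pos_iff.1 (show 0 < Nat.card Ω by rw [H.card]; omega)).1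
  obtain ⟨b, hab⟩ := H.exists_ne a
  by_cases hA : ∀ x y : Ω, x ≠ y → ∃ k ∈ s.kst x y, k ≠ 1
  · rcases Sys.cls_cases H hA with hsep | hp
    · exact Sys.caseA2_false H hA hsep hab
    · exact Sys.caseA1_false H hA hp hab
  · push Not at hA
    obtain ⟨x, y, hxy, hk⟩ := hA
    refine Sys.caseB_false H (s := s) ?_ hab
    intro u v huv k hk'
    obtain ⟨g, hgu, hgv⟩ := H.two u v x y huv hxy
    have := s.conj_mem_kst g hk'
    rw [hgu, hgv] at this
    exact conj_eq_one_iff.1 (hk _ this)

/-- Degree five. -/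
theorem two_card [Finite Ω] (hfaith : ∀ g : G, (∀ c : Ω, g • c = c) → g = 1)
    (hcard : Nat.card Ω = 5)
    (htwo : ∀ a b c d : Ω, a ≠ b → c ≠ d → ∃ g : G, g • a = c ∧ g • b = d)
    (s : Sys G Ω 2) {a b : Ω} (hab : a ≠ b) : Nat.card G = 20 := by
  classical
  let _ : Fintype Ω := Fintype.ofFinite Ω
  obtain ⟨b', hb', hb'b⟩ := Set.exists_ne_of_one_lt_ncard (s := s.blk a b)
    (by rw [s.ncard hab]; omega) b
  have hblk : s.blk a b = {b, b'} := by
    refine (Set.eq_of_subset_of_ncard_le ?_ ?_).symm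
    · exact Set.insert_subset (s.self_mem hab) (Set.singleton_subset_iff.2 hb')
    · rw [s.ncard hab, Set.ncard_pair hb'b.symm]
  set U := ({a, b, b'} : Set Ω)ᶜ with hU
  have hUcard : U.ncard = 2 := by
    rw [hU, Set.ncard_compl, hcard, Set.ncard_insert_of_notMem, Set.ncard_pair hb'b.symm]
    rw [Set.mem_insert_iff, Set.mem_singleton_iff, not_or]
    exact ⟨hab, s.ne_of_mem hab hb'⟩
  obtain ⟨c, d, hcd, hUeq⟩ := Set.ncard_eq_two.1 hUcard
  have hfix : ∀ h ∈ pst G a b, h • b' = b' := by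
    intro h hh
    have h1 := s.smul_mem h hab hb'
    rw [mem_stabilizer_iff.1 hh.1, mem_stabilizer_iff.1 hh.2, hblk] at h1
    rcases h1 with e | e
    · exact absurd (smul_left_cancel h (e.trans (mem_stabilizer_iff.1 hh.2).symm)) hb'b
    · exact e
  have hmap : ∀ h ∈ pst G a b, ∀ x ∈ U, h • x ∈ U := by
    intro h hh x hx hmem
    refine hx ?_
    rcases hmem with e | e | e
    · exact Or.inl (smul_left_cancel h (e.trans (mem_stabilizer_iff.1 hh.1).symm))
    · exact Or.inr (Or.inl (smul_left_cancel h (e.trans (mem_stabilizer_iff.1 hh.2).symm)))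
    · exact Or.inr (Or.inr (smul_left_cancel h (e.trans (hfix h hh).symm)))
  have hcU : c ∈ U := hUeq ▸ Set.mem_insert _ _
  have hdU : d ∈ U := hUeq ▸ Set.mem_insert_of_mem _ rfl
  have hle : Nat.card ↥(pst G a b) ≤ 2 := by
    have hinj : Function.Injective fun h : ↥(pst G a b) => (⟨(h : G) • c, hmap h h.2 c hcU⟩ : U) := by
      intro g h e
      have e' : (g : G) • c = (h : G) • c := congrArg Subtype.val e
      set x := (h : G)⁻¹ * g with hx
      have hxm : x ∈ pst G a b := mul_mem (inv_mem h.2) g.2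
      have hxc : x • c = c := by rw [hx, mul_smul, e', inv_smul_smul]
      have hxd : x • d = d := by
        have := hmap x hxm d hdU
        rw [hUeq] at this
        rcases this with e | e
        · exact absurd (smul_left_cancel x (e.trans hxc.symm)) hcd.symm
        · exact e
      have : x = 1 := hfaith x fun z => by
        by_cases hz : z ∈ U
        · rw [hUeq] at hz
          rcases hz with rfl | rfl
          · exact hxc
          · exact hxd
        · rw [hU, Set.notMem_compl_iff] at hz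
          rcases hz with rfl | rfl | rfl
          · exact hxm.1
          · exact hxm.2
          · exact hfix x hxm
      exact (Subtype.ext (inv_mul_eq_one.1 this)).symm
    have := Nat.card_le_card_of_injective _ hinj
    rwa [Nat.card_coe_set_eq, hUcard] at this
  have hGa : Nat.card ↥(stabilizer G a) = 4 * Nat.card ↥(pst G a b) := by
    rw [card_eq_orbit_mul (stabilizer G a) b]
    congr 1
    have ho : orbit (stabilizer G a) b = ({a}ᶜ : Set Ω) := by
      refine subset_antisymm (orbit_subset_compl le_rfl hab) fun e he => ?_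
      obtain ⟨g, hga, hgb⟩ := htwo a b a e hab (fun h => he h.symm)
      exact ⟨⟨g, hga⟩, hgb⟩
    rw [ho, Set.ncard_compl, Set.ncard_singleton, hcard]
  have htrans : IsPretransitive G Ω := ⟨fun x y => by
    by_cases hxy : x = y
    · exact ⟨1, by rw [one_smul, hxy]⟩
    · obtain ⟨g, hg, -⟩ := htwo x y y x hxy (Ne.symm hxy)
      exact ⟨g, hg⟩⟩
  have hG : Nat.card G = 5 * Nat.card ↥(stabilizer G a) := by
    rw [← (stabilizer G a).card_mul_index, index_stabilizer_of_transitive, hcard, mul_comm]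
  have hpos : 0 < Nat.card ↥(pst G a b) := Nat.card_pos
  rcases (show Nat.card ↥(pst G a b) = 1 ∨ Nat.card ↥(pst G a b) = 2 by omega) with he | he
  · rw [hG, hGa, he]
  exfalso
  have : Fact (Nat.Prime 5) := ⟨by norm_num⟩
  have hG40 : Nat.card G = 40 := by rw [hG, hGa, he]
  have h40 : (Nat.card G).factorization 5 = 1 := by
    rw [hG40, show (40 : ℕ) = 5 ^ 1 * 8 by norm_num,
      Nat.factorization_mul (by norm_num) (by norm_num), Finsupp.add_apply,
      (Fact.out : Nat.Prime 5).factorization_pow, Finsupp.single_eq_same,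
      Nat.factorization_eq_zero_of_not_dvd (by norm_num : ¬ 5 ∣ 8)]
  obtain ⟨T⟩ := (inferInstance : Nonempty (Sylow 5 G))
  have hTcard : Nat.card (T : Subgroup G) = 5 := by rw [T.card_eq_multiplicity, h40, pow_one]
  have hidx : (T : Subgroup G).index = 8 := by
    have := (T : Subgroup G).card_mul_index
    rw [hTcard, hG40] at this
    omega
  have hn1 : Nat.card (Sylow 5 G) = 1 := by
    have h1 := (Sylow.card_dvd_index T).trans (dvd_of_eq hidx)
    have h2 := card_sylow_modEq_one 5 G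
    have h3 := Nat.le_of_dvd (by norm_num) h1
    rw [Nat.ModEq] at h2
    interval_cases Nat.card (Sylow 5 G) <;> omega
  have := (Nat.card_eq_one_iff_unique.1 hn1).1
  have hTn : (T : Subgroup G).Normal := Sylow.normal_of_subsingleton T
  have horbit : ∀ z, ∃ x : (T : Subgroup G), (x : G) • a = z := by
    have h5 : ∀ u : Ω, orbit (T : Subgroup G) u = Set.univ ∨ orbit (T : Subgroup G) u = {u} := by
      intro u
      have h := card_eq_orbit_mul (T : Subgroup G) u
      rw [hTcard] at h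
      rcases (Fact.out : Nat.Prime 5).eq_one_or_self_of_dvd _ (Dvd.intro _ h.symm) with e | e
      · right
        obtain ⟨w, hw⟩ := Set.ncard_eq_one.1 e
        rw [hw, Set.singleton_eq_singleton_iff]
        exact (Set.mem_singleton_iff.1 (hw ▸ mem_orbit_self u)).symm
      · exact Or.inl (Set.eq_of_subset_of_ncard_le (Set.subset_univ _)
          (by rw [Set.ncard_univ, hcard, e]))
    rcases h5 a with e | e
    · intro z
      obtain ⟨x, hx⟩ : z ∈ orbit (T : Subgroup G) a := e ▸ Set.mem_univ z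
      exact ⟨x, hx⟩
    · exfalso
      have hall : (T : Subgroup G) = ⊥ := (Subgroup.eq_bot_iff_forall _).2 fun x hx => hfaith x fun z => by
        obtain ⟨g, rfl⟩ := exists_smul_eq G a z
        have hm : g⁻¹ * x * g ∈ (T : Subgroup G) := by
          have := hTn.conj_mem x hx g⁻¹
          rwa [inv_inv] at this
        have : (g⁻¹ * x * g) • a = a :=
          Set.mem_singleton_iff.1 (e ▸ (⟨⟨_, hm⟩, rfl⟩ : (g⁻¹ * x * g) • a ∈ orbit (T : Subgroup G) a))
        rwa [mul_smul, mul_smul, inv_smul_eq_iff] at this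
      rw [hall, Subgroup.card_bot] at hTcard
      omega
  obtain ⟨d₀, hd₀⟩ := exists_prime_orderOf_dvd_card' (G := (T : Subgroup G)) 5 (by rw [hTcard])
  have hd1 : d₀ ≠ 1 := fun e => by rw [e, orderOf_one] at hd₀; omega
  have hgen : ∀ x : (T : Subgroup G), x ∈ Subgroup.zpowers d₀ := fun x =>
    mem_zpowers_of_prime_card hTcard hd1
  let f : ↥(stabilizer G a) → {x : (T : Subgroup G) // x ≠ 1} := fun g =>
    ⟨⟨(g : G) * d₀ * (g : G)⁻¹, hTn.conj_mem _ d₀.2 g⟩, fun e => hd1 (Subtype.ext
      (conj_eq_one_iff.1 (congrArg Subtype.val e :)))⟩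
  have hf : Function.Injective f := by
    intro g h e
    have e' : (g : G) * d₀ * (g : G)⁻¹ = (h : G) * d₀ * (h : G)⁻¹ :=
      congrArg (fun x => ((x.1 : (T : Subgroup G)) : G)) e
    set x := (h : G)⁻¹ * g with hx
    have hxc : Commute x (d₀ : G) := by
      show x * (d₀ : G) = d₀ * x
      calc x * (d₀ : G) = (h : G)⁻¹ * ((g : G) * d₀ * (g : G)⁻¹) * g := by rw [hx]; group
        _ = d₀ * x := by rw [e', hx]; group
    have hxa : x • a = a := by
      rw [hx, mul_smul, mem_stabilizer_iff.1 g.2, inv_smul_eq_iff, mem_stabilizer_iff.1 h.2]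
    have : x = 1 := hfaith x fun z => by
      obtain ⟨y, rfl⟩ := horbit z
      obtain ⟨n, rfl⟩ := Subgroup.mem_zpowers_iff.1 (hgen y)
      rw [Subgroup.coe_zpow, ← mul_smul, (hxc.zpow_right n).eq, mul_smul, hxa]
    exact (Subtype.ext (inv_mul_eq_one.1 this)).symm
  have hle4 := Nat.card_le_card_of_injective f hf
  let _ : Fintype (T : Subgroup G) := Fintype.ofFinite _
  rw [hGa, he, Nat.card_eq_fintype_card (α := {x : (T : Subgroup G) // x ≠ 1}),
    Fintype.card_subtype_compl, Fintype.card_subtype_eq, ← Nat.card_eq_fintype_card, hTcard] at hle4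
  omega

theorem main [Finite Ω] (hp : p.Prime) (hcard : Nat.card Ω = p ^ 2 + 1)
    (hfaith : ∀ g : G, (∀ c : Ω, g • c = c) → g = 1)
    (htwo : ∀ a b c d : Ω, a ≠ b → c ≠ d → ∃ g : G, g • a = c ∧ g • b = d) (a : Ω) :
    MulAction.IsPreprimitive ↥(MulAction.stabilizer G a) ↥(SubMulAction.ofStabilizer G a) ∨
      (p = 2 ∧ Nat.card G = 20) := by
  classical
  refine or_iff_not_imp_left.2 fun hnot => ?_
  set X := SubMulAction.ofStabilizer G a with hX
  have hcardX : Nat.card X = p ^ 2 := by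
    rw [show Nat.card X = (X : Set Ω).ncard from Nat.card_coe_set_eq _,
      show (X : Set Ω) = {a}ᶜ from rfl, Set.ncard_compl, Set.ncard_singleton, hcard]
    omega
  have htr : IsPretransitive ↥(stabilizer G a) X := ⟨fun x y => by
    obtain ⟨g, hga, hgx⟩ := htwo a x a y (Ne.symm x.2) (Ne.symm y.2)
    exact ⟨⟨g, hga⟩, Subtype.ext hgx⟩⟩
  obtain ⟨B, hB, hBnt⟩ : ∃ B : Set X, IsBlock (stabilizer G a) B ∧ ¬ IsTrivialBlock B := by
    by_contra! h
    exact hnot ⟨fun {B} hB => h B hB⟩
  rw [IsTrivialBlock, not_or] at hBnt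
  obtain ⟨hBs, hBu⟩ := hBnt
  obtain ⟨b₀, hb₀⟩ : B.Nonempty := by
    by_contra h
    exact hBs (by rw [Set.not_nonempty_iff_eq_empty.1 h]; exact Set.subsingleton_empty)
  have hdvd := hB.ncard_dvd_card ⟨b₀, hb₀⟩
  rw [hcardX] at hdvd
  obtain ⟨i, hi, hic⟩ := (Nat.dvd_prime_pow hp).1 hdvd
  have hne1 : i ≠ 0 := fun e => hBs (by
    rw [e, pow_zero] at hic
    obtain ⟨w, hw⟩ := Set.ncard_eq_one.1 hic
    rw [hw]; exact Set.subsingleton_singleton)
  have hne2 : i ≠ 2 := fun e => hBu (by
    rw [e] at hic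
    exact Set.eq_of_subset_of_ncard_le (Set.subset_univ _) (by rw [Set.ncard_univ, hcardX, hic]))
  have hBcard : B.ncard = p := by rw [hic, show i = 1 by omega, pow_one]
  obtain ⟨s⟩ := exists_sys (p := p) htwo (a := a) (b₀ := (b₀ : Ω)) (Subtype.val '' B)
    (Ne.symm b₀.2) ⟨b₀, hb₀, rfl⟩ (by rintro ⟨x, -, e⟩; exact x.2 e)
    (by rw [Set.ncard_image_of_injective _ Subtype.val_injective, hBcard])
    fun g hga => by
      have himg : g • (Subtype.val '' B) = Subtype.val '' ((⟨g, hga⟩ : ↥(stabilizer G a)) • B) := by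
        rw [← Set.image_smul, ← Set.image_smul, Set.image_image, Set.image_image]
        rfl
      rw [himg]
      rcases (isBlock_iff_smul_eq_or_disjoint.1 hB) ⟨g, hga⟩ with h | h
      · exact Or.inl (by rw [h])
      · exact Or.inr (Set.disjoint_image_of_injective Subtype.val_injective h)
  rcases eq_or_ne p 2 with rfl | hp2
  · exact ⟨rfl, two_card hfaith (by rw [hcard]; rfl) htwo s (Ne.symm b₀.2)⟩
  · exact (odd_false ⟨hp, hp2, hcard, hfaith, htwo⟩ s).elim

end CfsgLib.Perm.DegreeSqSucc
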